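import Groth.Agent.S6381
import Mathlib.RingTheory.Artinian.Module
import Mathlib.RingTheory.LocalRing.ResidueField.Ideal
import Mathlib.RingTheory.TensorProduct.Free

/-!
# Finite free extensions with prescribed residue field, and retractions
-/

set_option autoImplicit false
universe u

open TensorProduct IsLocalRing

namespace K606.Alg

/-- The unit of a finite free algebra over a local ring is a direct factor. -/
theorem exists_retraction {Λ Λ' : Type u} [CommRing Λ] [IsLocalRing Λ] [CommRing Λ'] [Algebra Λ Λ']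
    [Module.Finite Λ Λ'] [Module.Free Λ Λ'] (h : (maximalIdeal Λ).map (algebraMap Λ Λ') ≠ ⊤) :
    ∃ t : Λ' →ₗ[Λ] Λ, t 1 = 1 := by
  let b := Module.Free.chooseBasis Λ Λ'
  obtain ⟨i, hi⟩ : ∃ i, IsUnit (b.repr 1 i) := by
    by_contra hcon
    push Not at hcon
    apply h
    rw [Ideal.eq_top_iff_one, ← b.sum_repr 1]
    refine Ideal.sum_mem _ fun i _ => ?_
    rw [Algebra.smul_def]
    exact Ideal.mul_mem_right _ _ (Ideal.mem_map_of_mem _ ((mem_maximalIdeal _).2 (hcon i)))
  obtain ⟨v, hv⟩ := hi
  refine ⟨(↑v⁻¹ : Λ) • b.coord i, ?_⟩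
  rw [LinearMap.smul_apply, Module.Basis.coord_apply, ← hv, smul_eq_mul, Units.inv_mul]

/-- A local ring has a finite free extension with prescribed finite extension of a residue field. -/
theorem exists_ext {Λ k : Type u} [CommRing Λ] [IsLocalRing Λ] [Field k] [Algebra Λ k]
    (hk : Function.Surjective (algebraMap Λ k)) (K : Type u) [Field K] [Algebra k K] [FiniteDimensional k K] :
    ∃ (Λ' : Type u) (_ : CommRing Λ') (_ : Algebra Λ Λ') (_ : Module.Finite Λ Λ') (_ : Module.Free Λ Λ')
      (ρ : Λ' →+* K) (t : Λ' →ₗ[Λ] Λ), Function.Surjective ρ ∧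
      RingHom.ker ρ = (maximalIdeal Λ).map (algebraMap Λ Λ') ∧
      ρ.comp (algebraMap Λ Λ') = (algebraMap k K).comp (algebraMap Λ k) ∧ t 1 = 1 := by
  let p : Ideal Λ := maximalIdeal Λ
  have hker : RingHom.ker (algebraMap Λ k) = p := by
    have : (RingHom.ker (algebraMap Λ k)).IsMaximal := RingHom.ker_isMaximal_of_surjective _ hk
    exact eq_maximalIdeal this
  have hbij := Ideal.bijective_algebraMap_quotient_residueField p
  let e₀ : (Λ ⧸ p) ≃+* p.ResidueField := RingEquiv.ofBijective _ hbij
  let f₀ : (Λ ⧸ p) →+* k := Ideal.Quotient.lift p (algebraMap Λ k) fun a ha => by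
    rw [← RingHom.mem_ker, hker]; exact ha
  have hf₀ : Function.Surjective f₀ := Ideal.Quotient.lift_surjective_of_surjective _ _ hk
  let g₀ : p.ResidueField →+* k := f₀.comp e₀.symm.toRingHom
  have hg₀ : Function.Surjective g₀ := hf₀.comp e₀.symm.surjective
  have hg₁ : ∀ a : Λ, g₀ (algebraMap Λ p.ResidueField a) = algebraMap Λ k a := fun a => by
    have h1 : e₀.symm (algebraMap Λ p.ResidueField a) = Ideal.Quotient.mk p a := by
      rw [RingEquiv.symm_apply_eq]
      rfl
    change f₀ (e₀.symm (algebraMap Λ p.ResidueField a)) = _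
    rw [h1]
    rfl
  let _ : Algebra p.ResidueField k := g₀.toAlgebra
  let _ : Algebra p.ResidueField K := ((algebraMap k K).comp g₀).toAlgebra
  let _ : Algebra Λ K := ((algebraMap k K).comp (algebraMap Λ k)).toAlgebra
  have : IsScalarTower p.ResidueField k K := .of_algebraMap_eq' rfl
  have : IsScalarTower Λ p.ResidueField K := .of_algebraMap_eq fun a => congrArg (algebraMap k K) (hg₁ a).symm
  have : Module.Finite p.ResidueField k := Module.Finite.of_surjective (Algebra.linearMap p.ResidueField k) hg₀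
  have : FiniteDimensional p.ResidueField K := Module.Finite.trans k K
  obtain ⟨Λ', _, _, _, _, hq, e, he⟩ := Groth.Agent.S6381.result Λ p K
  let q : Ideal Λ' := p.map (algebraMap Λ Λ')
  have hqm : q.IsMaximal := by
    have h1 : (q.comap (algebraMap Λ Λ')) = p := by
      have h2 : p ≤ q.comap (algebraMap Λ Λ') := Ideal.le_comap_map
      have h3 : (q.comap (algebraMap Λ Λ')).IsPrime := Ideal.comap_isPrime _ _
      exact (((maximalIdeal.isMaximal Λ).eq_of_le h3.ne_top h2)).symm
    have : Algebra.IsIntegral Λ Λ' := inferInstance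
    exact Ideal.isMaximal_of_isIntegral_of_isMaximal_comap q (by rw [h1]; exact maximalIdeal.isMaximal Λ)
  obtain ⟨t, ht⟩ := exists_retraction (Λ := Λ) (Λ' := Λ') hqm.ne_top
  have hb := Ideal.bijective_algebraMap_quotient_residueField q
  refine ⟨Λ', inferInstance, inferInstance, inferInstance, inferInstance,
    e.toRingHom.comp (algebraMap Λ' q.ResidueField), t, ?_, ?_, ?_, ht⟩
  · refine e.surjective.comp ?_
    have : (algebraMap Λ' q.ResidueField) = (algebraMap (Λ' ⧸ q) q.ResidueField).comp (Ideal.Quotient.mk q) := rfl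
    rw [this]
    exact hb.2.comp Ideal.Quotient.mk_surjective
  · ext a
    rw [RingHom.mem_ker]
    change e (algebraMap Λ' q.ResidueField a) = 0 ↔ _
    rw [EmbeddingLike.map_eq_zero_iff, ← RingHom.mem_ker, Ideal.ker_algebraMap_residueField]
  · ext a
    exact he a

section base

variable {Λ : Type u} [CommRing Λ] {Λ' : Type u} [CommRing Λ'] [Algebra Λ Λ'] (t : Λ' →ₗ[Λ] Λ)

/-- Base change of a linear map `Λ' → Λ`. -/
noncomputable def bc (B : Type u) [CommRing B] [Algebra Λ B] : B ⊗[Λ] Λ' →ₗ[B] B :=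
  (TensorProduct.AlgebraTensorModule.rid Λ B B).toLinearMap ∘ₗ TensorProduct.AlgebraTensorModule.lTensor B B t

variable {B A : Type u} [CommRing B] [Algebra Λ B] [CommRing A] [Algebra Λ A]

theorem bc_tmul (b : B) (l : Λ') : bc t B (b ⊗ₜ l) = t l • b := by
  simp [bc]

theorem bc_one (ht : t 1 = 1) : bc t B 1 = 1 := by
  rw [Algebra.TensorProduct.one_def, bc_tmul, ht, one_smul]

theorem bc_map (μ : B →ₐ[Λ] A) (x : B ⊗[Λ] Λ') :
    μ (bc t B x) = bc t A (Algebra.TensorProduct.map μ (AlgHom.id Λ Λ') x) := by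
  induction x with
  | zero => simp
  | add a b ha hb => rw [map_add, map_add, ha, hb, map_add, map_add]
  | tmul b l => rw [bc_tmul, Algebra.TensorProduct.map_tmul, bc_tmul, map_smul]; rfl

/-- The kernel of the base change of a surjection. -/
theorem ker_map (μ : B →ₐ[Λ] A) (hμ : Function.Surjective μ) :
    RingHom.ker (Algebra.TensorProduct.map μ (AlgHom.id Λ Λ')).toRingHom =
      (RingHom.ker μ.toRingHom).map (Algebra.TensorProduct.includeLeftRingHom : B →+* B ⊗[Λ] Λ') := by
  have h := Algebra.TensorProduct.rTensor_ker (R := Λ) (C := Λ') μ hμ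
  exact h

theorem map_surjective (μ : B →ₐ[Λ] A) (hμ : Function.Surjective μ) :
    Function.Surjective (Algebra.TensorProduct.map μ (AlgHom.id Λ Λ')) :=
  TensorProduct.map_surjective hμ Function.surjective_id

end base

end K606.Alg
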