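import Groth.Agent.CurvSt.K902.ChartLift
import Groth.Agent.CurvSt.K902.CurveLift
import Groth.Agent.Deform.K185.FlatLift

/-!
# Lifting along nilpotent thickenings for smooth charts of stacks
-/

set_option autoImplicit false
set_option backward.isDefEq.respectTransparency false
set_option backward.isDefEq.respectTransparency.types false

universe v₂ u₂ u

open CategoryTheory CategoryTheory.Limits AlgebraicGeometry Opposite K862.Fib K862.Yon

namespace K606.NilLift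

/-- Surjections whose kernel has square zero give first order thickenings. -/
theorem isFirstOrderThickening {B A : Type u} [CommRing B] [CommRing A] (π : B →+* A)
    (hπ : Function.Surjective π) (hI : RingHom.ker π ^ 2 = ⊥) :
    MoreMor.IsFirstOrderThickening (Spec.map (CommRingCat.ofHom π)) := by
  have h0 := K902.CurveLift.isFirstOrderThickening_mk (RingHom.ker π) hI
  let e : CommRingCat.of (B ⧸ RingHom.ker π) ≅ CommRingCat.of A :=
    (RingHom.quotientKerEquivOfSurjective hπ).toCommRingCatIso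
  have he : Spec.map (CommRingCat.ofHom π) =
      Spec.map e.hom ≫ Spec.map (CommRingCat.ofHom (Ideal.Quotient.mk (RingHom.ker π))) := by
    rw [← Spec.map_comp]
    congr 1
  rw [he]
  have := h0.1.1
  have := h0.1.2
  refine ⟨⟨inferInstance, inferInstance⟩, ?_⟩
  rw [Scheme.Hom.ker_comp_of_isIso]
  exact h0.2

variable {S : Scheme.{u}} {𝒳 : BasedCategory.{v₂, u₂} (Over S)}

section span

variable [FibCat.IsFibGrpd 𝒳.p] {U T : Over S} {x : FibCat.overCat U ⥤ᵇ 𝒳} {y : FibCat.overCat T ⥤ᵇ 𝒳}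

theorem exists_arrow_of_iso {T' : Over S} (g : T' ⟶ U) (t : T' ⟶ T)
    (i : BasedFunctor.comp (AlgSt.overMap g) x ≅ BasedFunctor.comp (AlgSt.overMap t) y) :
    ∃ (A : 𝒳.obj) (φ : A ⟶ (objOf x).1) (ψ : A ⟶ (objOf y).1), 𝒳.p.IsHomLift g φ ∧ 𝒳.p.IsHomLift t ψ := by
  have h1 : 𝒳.p.IsHomLift g (arrAt x (𝟙 T' ≫ g)) := by
    have := arrAt_isHomLift x (𝟙 T' ≫ g)
    rwa [Category.id_comp] at this
  have h2 : 𝒳.p.IsHomLift t (arrAt y (𝟙 T' ≫ t)) := by
    have := arrAt_isHomLift y (𝟙 T' ≫ t)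
    rwa [Category.id_comp] at this
  have h3 := (homOf i.hom).2
  refine ⟨_, arrAt x (𝟙 T' ≫ g), (homOf i.hom).1 ≫ arrAt y (𝟙 T' ≫ t), h1, ?_⟩
  exact IsHomLift.comp_lift_id_left 𝒳.p t _ _

/-- An arrow from a 2-isomorphism. -/
theorem exists_arrow (g : T ⟶ U) (i : BasedFunctor.comp (AlgSt.overMap g) x ≅ y) :
    ∃ φ : (objOf y).1 ⟶ (objOf x).1, 𝒳.p.IsHomLift g φ := by
  have h1 : 𝒳.p.IsHomLift g (arrAt x (𝟙 T ≫ g)) := by
    have := arrAt_isHomLift x (𝟙 T ≫ g)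
    rwa [Category.id_comp] at this
  have h3 := (homOf i.inv).2
  exact ⟨(homOf i.inv).1 ≫ arrAt x (𝟙 T ≫ g), IsHomLift.comp_lift_id_left 𝒳.p g _ _⟩

/-- A 2-isomorphism from a span of arrows. -/
theorem nonempty_iso_of_arrows {T' : Over S} (g : T' ⟶ U) (t : T' ⟶ T) {A : 𝒳.obj} (φ : A ⟶ (objOf x).1)
    [hφ : 𝒳.p.IsHomLift g φ] (ψ : A ⟶ (objOf y).1) [hψ : 𝒳.p.IsHomLift t ψ] :
    Nonempty (BasedFunctor.comp (AlgSt.overMap g) x ≅ BasedFunctor.comp (AlgSt.overMap t) y) := by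
  let A' : 𝒳.p.Fiber T' := ⟨A, IsHomLift.domain_eq 𝒳.p g φ⟩
  have h1 : 𝒳.p.IsHomLift g (arrAt x (𝟙 T' ≫ g)) := by
    have := arrAt_isHomLift x (𝟙 T' ≫ g)
    rwa [Category.id_comp] at this
  have h2 : 𝒳.p.IsHomLift t (arrAt y (𝟙 T' ≫ t)) := by
    have := arrAt_isHomLift y (𝟙 T' ≫ t)
    rwa [Category.id_comp] at this
  let α₁ : objOf (BasedFunctor.comp (AlgSt.overMap g) x) ⟶ A' :=
    cmpHom g (x := objOf x) (x' := objOf (BasedFunctor.comp (AlgSt.overMap g) x)) (x'' := A')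
      (arrAt x (𝟙 T' ≫ g)) φ
  let α₂ : A' ⟶ objOf (BasedFunctor.comp (AlgSt.overMap t) y) :=
    cmpHom t (x := objOf y) (x' := A') (x'' := objOf (BasedFunctor.comp (AlgSt.overMap t) y))
      ψ (arrAt y (𝟙 T' ≫ t))
  exact ⟨isoOf (α₁ ≫ α₂)⟩

end span

variable [FibCat.IsFibGrpd 𝒳.p] {U : Over S} (x : FibCat.overCat U ⥤ᵇ 𝒳)
  (hx : AlgSt.RepByAlgSpWith (AlgSp.LocP @Smooth) x)

include hx in
/-- Lifting of objects along first order thickenings, with the resulting arrow. -/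
theorem exists_lift_obj {T₀ T : Over S} (j : T₀ ⟶ T) [IsAffine T.left] (hj : MoreMor.IsFirstOrderThickening j.left)
    (g₀ : T₀ ⟶ U) (A₀ : 𝒳.obj) (A : 𝒳.p.Fiber T) (φ : A₀ ⟶ (objOf x).1) [hφ : 𝒳.p.IsHomLift g₀ φ] (ψ : A₀ ⟶ A.1)
    [hψ : 𝒳.p.IsHomLift j ψ] : ∃ g : T ⟶ U, j ≫ g = g₀ ∧ ∃ χ : A.1 ⟶ (objOf x).1, 𝒳.p.IsHomLift g χ := by
  let A₀' : 𝒳.p.Fiber T₀ := ⟨A₀, IsHomLift.domain_eq 𝒳.p g₀ φ⟩
  have h0 := (inv (objOfOfObj A)).2
  have h1 : 𝒳.p.IsHomLift j (ψ ≫ (inv (objOfOfObj A)).1) := IsHomLift.comp_lift_id_right 𝒳.p j _ _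
  obtain ⟨i⟩ := nonempty_iso_of_arrows (x := x) (y := ofObj A) g₀ j φ (ψ ≫ (inv (objOfOfObj A)).1)
  obtain ⟨g, hg, ⟨i'⟩⟩ := K902.ChartLift.exists_lift_chart x hx j hj g₀ (ofObj A) i
  obtain ⟨χ, hχ⟩ := exists_arrow (x := x) (y := ofObj A) g i'
  exact ⟨g, hg, (inv (objOfOfObj A)).1 ≫ χ, IsHomLift.comp_lift_id_left 𝒳.p g _ _⟩

/-- The morphism over `S` of spectra given by a ring map. -/
noncomputable abbrev mor {A B : Type u} [CommRing A] [CommRing B] (f : A →+* B)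
    {a : Spec (CommRingCat.of A) ⟶ S} {b : Spec (CommRingCat.of B) ⟶ S} (w : Spec.map (CommRingCat.ofHom f) ≫ a = b) :
    Over.mk b ⟶ Over.mk a := Over.homMk (Spec.map (CommRingCat.ofHom f)) w

/-- The lifting property of a ring map with respect to a chart. -/
def HasLift {B A : Type u} [CommRing B] [CommRing A] (π : B →+* A) : Prop :=
  ∀ ⦃a : Spec (CommRingCat.of A) ⟶ S⦄ ⦃b : Spec (CommRingCat.of B) ⟶ S⦄
    (w : Spec.map (CommRingCat.ofHom π) ≫ b = a) (g₀ : Over.mk a ⟶ U) (O₀ : 𝒳.obj) (O : 𝒳.p.Fiber (Over.mk b))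
    (φ : O₀ ⟶ (objOf x).1) (_ : 𝒳.p.IsHomLift g₀ φ) (ψ : O₀ ⟶ O.1) (_ : 𝒳.p.IsHomLift (mor π w) ψ),
    ∃ g : Over.mk b ⟶ U, mor π w ≫ g = g₀ ∧ ∃ χ : O.1 ⟶ (objOf x).1, 𝒳.p.IsHomLift g χ

theorem hasLift_comp {B Q A : Type u} [CommRing B] [CommRing Q] [CommRing A] (m : B →+* Q) (π : Q →+* A)
    (hm : HasLift x m) (hπ : HasLift x π) : HasLift x (π.comp m) := by
  intro a b w g₀ O₀ O φ hφ ψ hψ
  have e0 : Spec.map (CommRingCat.ofHom (π.comp m)) = Spec.map (CommRingCat.ofHom π) ≫ Spec.map (CommRingCat.ofHom m) := by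
    rw [CommRingCat.ofHom_comp, Spec.map_comp]
  have w' : Spec.map (CommRingCat.ofHom π) ≫ Spec.map (CommRingCat.ofHom m) ≫ b = a := by
    rw [← w, e0, Category.assoc]
  have e1 : mor (π.comp m) w = mor π w' ≫ mor (S := S) m (b := Spec.map (CommRingCat.ofHom m) ≫ b) rfl :=
    Over.OverMorphism.ext e0
  rw [e1] at hψ ⊢
  obtain ⟨g₁, hg₁, χ₁, hχ₁⟩ := hπ w' g₀ O₀ (pull (mor m rfl) O) φ hφ
    (fill 𝒳.p (mor m rfl) (mor π w') rfl (pullHom (mor m rfl) O) ψ) inferInstance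
  obtain ⟨g, hg, χ, hχ⟩ := hm rfl g₁ _ O χ₁ hχ₁ (pullHom (mor m rfl) O) inferInstance
  exact ⟨g, by rw [Category.assoc, hg, hg₁], χ, hχ⟩

include hx in
theorem hasLift_sq {B A : Type u} [CommRing B] [CommRing A] (π : B →+* A) (hπ : Function.Surjective π)
    (hI : RingHom.ker π ^ 2 = ⊥) : HasLift x π := by
  intro a b w g₀ O₀ O φ hφ ψ hψ
  have : IsAffine (Over.mk b).left := inferInstanceAs (IsAffine (Spec (CommRingCat.of B)))
  exact exists_lift_obj x hx (mor π w) (isFirstOrderThickening π hπ hI) g₀ O₀ O φ ψ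

include hx in
/-- Lifting along nilpotent thickenings. -/
theorem hasLift_nil (n : ℕ) : ∀ {B A : Type u} [CommRing B] [CommRing A] (π : B →+* A) (_ : Function.Surjective π)
    (_ : RingHom.ker π ^ (n + 2) = ⊥), HasLift x π := by
  induction n with
  | zero =>
    intro B A _ _ π hπ hI
    exact hasLift_sq x hx π hπ hI
  | succ n ih =>
    intro B A _ _ π hπ hI
    let J : Ideal B := RingHom.ker π ^ (n + 2)
    have hJ : J ^ 2 = ⊥ := by
      rw [← le_bot_iff, ← hI, ← pow_mul]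
      exact Ideal.pow_le_pow_right (by omega)
    have hJk : J ≤ RingHom.ker π := Ideal.pow_le_self (by omega)
    let π' : B ⧸ J →+* A := Ideal.Quotient.lift J π hJk
    have hπ' : Function.Surjective π' := Ideal.Quotient.lift_surjective_of_surjective _ _ hπ
    have hcomp : π'.comp (Ideal.Quotient.mk J) = π := Ideal.Quotient.lift_comp_mk _ _ _
    have hk : RingHom.ker π' ^ (n + 2) = ⊥ := by
      have h1 : RingHom.ker π' = (RingHom.ker π).map (Ideal.Quotient.mk J) := by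
        apply le_antisymm
        · intro y hy
          obtain ⟨b, rfl⟩ := Ideal.Quotient.mk_surjective y
          exact Ideal.mem_map_of_mem _ (by rw [RingHom.mem_ker, ← hcomp]; exact hy)
        · rw [Ideal.map_le_iff_le_comap]
          intro b hb
          change π' (Ideal.Quotient.mk J b) = 0
          rw [← RingHom.comp_apply, hcomp]
          exact hb
      rw [h1, ← Ideal.map_pow]
      exact Ideal.map_quotient_self J
    rw [← hcomp]
    refine hasLift_comp x (Ideal.Quotient.mk J) π' (hasLift_sq x hx _ Ideal.Quotient.mk_surjective ?_) (ih π' hπ' hk)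
    rw [Ideal.mk_ker, hJ]

include hx in
/-- Lifting along surjections with nilpotent kernel. -/
theorem hasLift_of_isNilpotent {B A : Type u} [CommRing B] [CommRing A] (π : B →+* A) (hπ : Function.Surjective π)
    (hI : IsNilpotent (RingHom.ker π)) : HasLift x π := by
  obtain ⟨n, hn⟩ := hI
  exact hasLift_nil x hx n π hπ (by rw [pow_add, hn, Ideal.zero_eq_bot, Ideal.bot_mul])

end K606.NilLift
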