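import Groth.Agent.CurvSt.K899.CurveFam
import Groth.Agent.CurvSt.K901.SchFib
import Groth.Agent.CurvSt.K902.CurveLift
import Groth.Agent.AlgSp.K632.FinThickSch
import Groth.Agent.AlgSp.K635.Thick
import Groth.Agent.Deform.K185.DefLift
import Groth.Agent.IsoNat.K862.Yon

/-!
# Scheme families of curves and infinitesimal thickenings
-/

set_option autoImplicit false
set_option backward.isDefEq.respectTransparency false
set_option backward.isDefEq.respectTransparency.types false

universe u

open CategoryTheory CategoryTheory.Limits AlgebraicGeometry Opposite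

namespace K606.Obj

open CurvSt AlgSp

/-- The conditions on a scheme family of curves. -/
structure Good {X T : Scheme.{u}} (f : X ⟶ T) : Prop where
  flat : Flat f
  proper : IsProper f
  lfp : LocallyOfFinitePresentation f
  dim : ∀ x, FlatMor.fibreDimAt f x ≤ 1

theorem Good.of_isPullback {X T X' T' : Scheme.{u}} {f : X ⟶ T} {f' : X' ⟶ T'} {a : X' ⟶ X} {g : T' ⟶ T}
    (h : Good f) (sq : IsPullback a f' f g) : Good f' where
  flat := MorphismProperty.of_isPullback sq h.flat
  proper := MorphismProperty.of_isPullback sq h.proper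
  lfp := MorphismProperty.of_isPullback sq h.lfp
  dim x := by
    have := h.lfp
    rw [K418.DimFlat.fibreDimAt_of_isPullback sq x]
    exact h.dim _

theorem Good.of_lift {S₀ S X₀ X : Scheme.{u}} [IsAffine S] {i : S₀ ⟶ S} (hi : MoreMor.IsFiniteOrderThickening i)
    {f₀ : X₀ ⟶ S₀} {f : X ⟶ S} {j : X₀ ⟶ X} (sq : IsPullback j f₀ f i) (hf : Flat f) (h : Good f₀) : Good f := by
  have := h.flat
  have := h.proper
  have := h.lfp
  have h1 := hi.1.1
  have h2 := hi.1.2
  have hj1 : IsClosedImmersion j := MorphismProperty.of_isPullback sq.flip h1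
  have hj2 : Surjective j := MorphismProperty.of_isPullback sq.flip h2
  have h1 : LocallyOfFinitePresentation f := by
    have : Flat (f ≫ 𝟙 S) := by rw [Category.comp_id]; infer_instance
    exact (Groth.Agent.S1320.result j i i f₀ f (𝟙 S₀) (𝟙 S) hi
      (by rw [Category.comp_id, Category.comp_id]; exact sq) (IsPullback.of_vert_isIso ⟨by simp⟩) sq.w).1 inferInstance
  have h2 : QuasiCompact f := (Groth.Agent.S1303.result j i f₀ f ⟨hj1, hj2⟩ hi.1 sq.w).1 inferInstance
  have h3 : UniversallyClosed f := (Groth.Agent.S1304.result j i f₀ f ⟨hj1, hj2⟩ hi.1 sq.w).1 inferInstance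
  have h4 : IsSeparated f := (Groth.Agent.S2306.result f f₀ j i sq.w.symm).2 inferInstance
  refine ⟨hf, {}, h1, fun x => ?_⟩
  obtain ⟨x₀, rfl⟩ := hj2.surj x
  rw [← K418.DimFlat.fibreDimAt_of_isPullback sq x₀]
  exact h.dim x₀

variable {S : Scheme.{u}}

/-- An unpointed family of schemes. -/
def mkFam (T : Over S) {X : Scheme.{u}} (f : X ⟶ T.left) : PtFamObj S 0 :=
  ⟨T, X, f, Fin.elim0, fun i => i.elim0⟩

/-- A morphism of unpointed families. -/
def mkHom {T T' : Over S} {X X' : Scheme.{u}} {f : X ⟶ T.left} {f' : X' ⟶ T'.left} (g : T' ⟶ T) (a : X' ⟶ X)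
    (sq : IsPullback a f' f g.left) : mkFam T' f' ⟶ mkFam T f :=
  ⟨g, a, sq, fun i => i.elim0⟩

/-- A scheme family as an object of the stack of curves. -/
noncomputable def fam (T : Over S) {X : Scheme.{u}} (f : X ⟶ T.left) (h : Good f) : (Curves S 0).obj :=
  K899.CurveFam.toCurves (mkFam T f) h.flat h.proper h.lfp h.dim

section map

variable {T T' : Over S} {X X' : Scheme.{u}} {f : X ⟶ T.left} {f' : X' ⟶ T'.left} (h : Good f) (h' : Good f')
  (g : T' ⟶ T) (a : X' ⟶ X) (sq : IsPullback a f' f g.left)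

/-- A cartesian square as an arrow of the stack of curves. -/
noncomputable def famMap : fam T' f' h' ⟶ fam T f h :=
  ObjectProperty.homMk ((toSpFam S 0).map (mkHom g a sq))

instance famMap_isHomLift : (Curves S 0).p.IsHomLift g (famMap h h' g a sq) :=
  IsHomLift.map (Curves S 0).p (famMap h h' g a sq)

end map

/-- The total space of a thickening of a scheme family is a finite order thickening. -/
theorem isFinThickMor_top {T₀ : Over S} {X₀ : Scheme.{u}} {f₀ : X₀ ⟶ T₀.left} {O : SpFamObj S 0} (hO : IsAlgSpace O.X)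
    (α : (toSpFam S 0).obj (mkFam T₀ f₀) ⟶ O) (hj : MoreMor.IsFiniteOrderThickening α.base.left) :
    IsFinThickMor α.top := by
  obtain ⟨hj1, n, hn⟩ := hj
  have hn' : powZero n α.base.left := by
    change _ ^ (n + 1) = _
    rw [pow_succ, hn, Scheme.IdealSheafData.zero_eq_bot, Scheme.IdealSheafData.bot_mul]
  refine ⟨n, K635.Thick.isNThickMor_of_isPullback (IsAlgSpace.yon_obj O.base) hO α.cart.flip ?_⟩
  exact (K635.Thick.isNThickMor_yon_map_iff α.base).2 ⟨hj1, hn'⟩

/-- A family of curves with representable total space is a scheme family. -/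
theorem exists_fam_iso (O : (Curves S 0).obj) (hO : O.obj.X.obj.IsRepresentable) :
    ∃ (X : Scheme.{u}) (f : X ⟶ O.obj.base.left) (h : Good f) (β : fam O.obj.base f h ⟶ O),
      (Curves S 0).p.IsHomLift (𝟙 O.obj.base) β := by
  obtain ⟨Q, ⟨e⟩⟩ := K610.ZarGlue.isRepresentable_iff.1 hO
  obtain ⟨q, hq⟩ := (yon S).map_surjective (e.hom ≫ O.obj.f)
  have hid : (yon S).map (𝟙 O.obj.base) = 𝟙 _ := (yon S).map_id _
  have h1 : IsPullback e.hom ((yon S).map q) O.obj.f ((yon S).map (𝟙 O.obj.base)) := by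
    rw [hid]
    refine IsPullback.of_horiz_isIso ⟨?_⟩
    rw [hq, Category.comp_id]
  obtain ⟨g1, g2, g3, g4⟩ := K901.SchFib.facts O.property h1
  have hG : Good q.left := ⟨g1, g2, g3, g4⟩
  let ε : Over.mk (q.left ≫ O.obj.base.hom) ≅ Q := Over.isoMk (Iso.refl _) (by simp)
  have h2 : IsPullback ((yon S).map ε.hom ≫ e.hom)
      ((yon S).map (Over.homMk q.left rfl : Over.mk (q.left ≫ O.obj.base.hom) ⟶ O.obj.base)) O.obj.f
      ((yon S).map (𝟙 O.obj.base)) := by
    rw [hid]
    refine IsPullback.of_horiz_isIso ⟨?_⟩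
    rw [Category.comp_id, Category.assoc, ← hq, ← Functor.map_comp]
    congr 1
  let β : (toSpFam S 0).obj (mkFam O.obj.base q.left) ⟶ O.obj :=
    ⟨𝟙 _, (yon S).map ε.hom ≫ e.hom, h2, fun i => i.elim0⟩
  let β' : fam O.obj.base q.left hG ⟶ O := ObjectProperty.homMk β
  exact ⟨Q.left, q.left, hG, β', IsHomLift.map (Curves S 0).p β'⟩

/-- An arrow between scheme families comes from a cartesian square. -/
theorem exists_square {T T' : Over S} {X X' : Scheme.{u}} {f : X ⟶ T.left} {f' : X' ⟶ T'.left} (h : Good f)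
    (h' : Good f') (g : T' ⟶ T) (φ : fam T' f' h' ⟶ fam T f h) [hφ : (Curves S 0).p.IsHomLift g φ] :
    ∃ (a : X' ⟶ X) (sq : IsPullback a f' f g.left), famMap h h' g a sq = φ := by
  obtain ⟨ψ, hψ⟩ := (toSpFam S 0).toFunctor.map_surjective φ.hom
  have h1 : g = ψ.base := by
    have h2 := IsHomLift.fac (Curves S 0).p g φ
    have h3 : (Curves S 0).p.map φ = ψ.base := (congrArg SpFamObj.Hom.base hψ).symm
    rw [h3] at h2
    simpa using h2
  subst h1
  refine ⟨ψ.top, ψ.cart, ?_⟩
  apply ObjectProperty.hom_ext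
  exact hψ

/-- An object of the stack of curves one of whose pullbacks along a finite order thickening is a scheme family, is one. -/
theorem exists_scheme [FibCat.IsFibGrpd (Curves S 0).p] {T₀ : Over S} {X₀ : Scheme.{u}} {f₀ : X₀ ⟶ T₀.left} (h₀ : Good f₀) (O : (Curves S 0).obj)
    (j : T₀ ⟶ O.obj.base) (hj : MoreMor.IsFiniteOrderThickening j.left) (α : fam T₀ f₀ h₀ ⟶ O)
    [hα : (Curves S 0).p.IsHomLift j α] :
    ∃ (X : Scheme.{u}) (f : X ⟶ O.obj.base.left) (h : Good f) (β : fam O.obj.base f h ⟶ O)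
      (_ : (Curves S 0).p.IsHomLift (𝟙 O.obj.base) β) (a : X₀ ⟶ X) (sq : IsPullback a f₀ f j.left),
      famMap h h₀ j a sq ≫ β = α := by
  have h1 : j = α.hom.base := by
    have h2 := IsHomLift.fac (Curves S 0).p j α
    have h3 : (Curves S 0).p.map α = α.hom.base := rfl
    rw [h3] at h2
    simpa using h2
  have h2 : IsFinThickMor α.hom.top := isFinThickMor_top O.property.1 α.hom (h1 ▸ hj)
  have h3 : O.obj.X.obj.IsRepresentable := K632.FinThickSch.isRepresentable (X' := ⟨O.obj.X, O.property.1⟩) h2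
  obtain ⟨X, f, h, β, hβ⟩ := exists_fam_iso O h3
  obtain ⟨a, sq, hγ⟩ := exists_square h h₀ j
    (K862.Fib.fill (Curves S 0).p (𝟙 O.obj.base) j (Category.comp_id j).symm β α)
  exact ⟨X, f, h, β, hβ, a, sq, by rw [hγ, K862.Fib.fill_comp]⟩

end K606.Obj
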