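import Groth.Agent.CurvSt.K606.Phi
import Groth.Prelude.Def_ArtFun4
import Mathlib.RingTheory.HopkinsLevitzki

/-!
# The residue map of the base change of an Artinian ring
-/

set_option autoImplicit false
universe u

open TensorProduct IsLocalRing ArtFun

namespace K606.Sig

variable {Λ k : Type u} [CommRing Λ] [Field k] [Algebra Λ k]

/-- The residue map `A ⊗ Λ' → K`. -/
theorem exists_sigma [IsLocalRing Λ] (hk : Function.Surjective (algebraMap Λ k)) (A : Art Λ k) {Λ' K : Type u}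
    [CommRing Λ'] [Algebra Λ Λ'] [Field K] [Algebra k K] (ρ : Λ' →+* K) (hρ : Function.Surjective ρ)
    (hker : RingHom.ker ρ = (maximalIdeal Λ).map (algebraMap Λ Λ'))
    (hcomp : ρ.comp (algebraMap Λ Λ') = (algebraMap k K).comp (algebraMap Λ k)) :
    ∃ σ : A ⊗[Λ] Λ' →+* K, (∀ a : A, σ (a ⊗ₜ 1) = algebraMap k K (A.res a)) ∧ (∀ l : Λ', σ (1 ⊗ₜ l) = ρ l) ∧
      Function.Surjective σ ∧ IsNilpotent (RingHom.ker σ) := by
  let _ : Algebra Λ K := ((algebraMap k K).comp (algebraMap Λ k)).toAlgebra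
  let f : A →ₐ[Λ] K := ⟨(algebraMap k K).comp A.res.toRingHom, fun r => congrArg (algebraMap k K) (A.res.commutes r)⟩
  let g : Λ' →ₐ[Λ] K := ⟨ρ, fun r => congrArg (fun h : Λ →+* K => h r) hcomp⟩
  let σ : A ⊗[Λ] Λ' →ₐ[Λ] K := Algebra.TensorProduct.lift f g (fun _ _ => Commute.all _ _)
  have h1 : ∀ (a : A) (l : Λ'), σ (a ⊗ₜ l) = algebraMap k K (A.res a) * ρ l := fun a l =>
    Algebra.TensorProduct.lift_tmul _ _ _ _ _
  have hL : RingHom.ker (algebraMap Λ k) = maximalIdeal Λ := by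
    have : (RingHom.ker (algebraMap Λ k)).IsMaximal := RingHom.ker_isMaximal_of_surjective _ hk
    exact eq_maximalIdeal this
  let J : Ideal (A ⊗[Λ] Λ') := (maximalIdeal A).map (Algebra.TensorProduct.includeLeftRingHom : A →+* A ⊗[Λ] Λ')
  have hm : ∀ μ ∈ maximalIdeal Λ, algebraMap Λ A μ ∈ maximalIdeal A := fun μ hμ => by
    rw [A.mem_maximalIdeal_iff]
    have : A.res (algebraMap Λ A μ) = algebraMap Λ k μ := A.res.commutes μ
    rw [this]
    rwa [← hL] at hμ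
  have hJ : ∀ l ∈ RingHom.ker ρ, (1 : A) ⊗ₜ[Λ] l ∈ J := by
    intro l hl
    rw [hker] at hl
    have h2 : (maximalIdeal Λ).map (algebraMap Λ Λ') ≤
        J.comap (Algebra.TensorProduct.includeRight : Λ' →ₐ[Λ] A ⊗[Λ] Λ').toRingHom := by
      rw [Ideal.map_le_iff_le_comap]
      intro μ hμ
      change (1 : A) ⊗ₜ[Λ] (algebraMap Λ Λ' μ) ∈ J
      have e : (1 : A) ⊗ₜ[Λ] (algebraMap Λ Λ' μ) = (algebraMap Λ A μ) ⊗ₜ[Λ] (1 : Λ') := by
        rw [Algebra.algebraMap_eq_smul_one, Algebra.algebraMap_eq_smul_one, TensorProduct.tmul_smul,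
          TensorProduct.smul_tmul']
      rw [e]
      exact Ideal.mem_map_of_mem _ (hm μ hμ)
    exact h2 hl
  have hdec : ∀ y : A ⊗[Λ] Λ', ∃ l : Λ', y - 1 ⊗ₜ l ∈ J := by
    intro y
    induction y with
    | zero => exact ⟨0, by rw [TensorProduct.tmul_zero, sub_zero]; exact J.zero_mem⟩
    | add a b ha hb =>
      obtain ⟨l, hl⟩ := ha
      obtain ⟨m, hm⟩ := hb
      refine ⟨l + m, ?_⟩
      rw [TensorProduct.tmul_add, show a + b - (1 ⊗ₜ[Λ] l + 1 ⊗ₜ[Λ] m) = (a - 1 ⊗ₜ l) + (b - 1 ⊗ₜ m) by abel]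
      exact J.add_mem hl hm
    | tmul a l =>
      obtain ⟨c, hc⟩ := hk (A.res a)
      refine ⟨c • l, ?_⟩
      have e : a ⊗ₜ[Λ] l - 1 ⊗ₜ[Λ] (c • l) = ((a - algebraMap Λ A c) ⊗ₜ[Λ] (1 : Λ')) * (1 ⊗ₜ[Λ] l) := by
        rw [Algebra.TensorProduct.tmul_mul_tmul, mul_one, one_mul, TensorProduct.sub_tmul, TensorProduct.tmul_smul,
          Algebra.algebraMap_eq_smul_one, TensorProduct.smul_tmul']
      rw [e]
      refine J.mul_mem_right _ (Ideal.mem_map_of_mem _ ?_)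
      rw [A.mem_maximalIdeal_iff, map_sub, ← hc, sub_eq_zero]
      exact (A.res.commutes c).symm
  have hJσ : J ≤ RingHom.ker σ.toRingHom := by
    rw [Ideal.map_le_iff_le_comap]
    intro a ha
    change σ (a ⊗ₜ 1) = 0
    rw [h1, (A.mem_maximalIdeal_iff a).1 ha, map_zero, zero_mul]
  refine ⟨σ.toRingHom, fun a => ?_, fun l => ?_, ?_, ?_⟩
  · exact (h1 a 1).trans (by rw [map_one, mul_one])
  · exact (h1 1 l).trans (by rw [map_one, map_one, one_mul])
  · intro z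
    obtain ⟨l, rfl⟩ := hρ z
    exact ⟨1 ⊗ₜ l, (h1 1 l).trans (by rw [map_one, map_one, one_mul])⟩
  · have h3 : RingHom.ker σ.toRingHom ≤ J := by
      intro y hy
      obtain ⟨l, hl⟩ := hdec y
      have h4 : ρ l = 0 := by
        have h5 : σ (y - 1 ⊗ₜ l) = 0 := hJσ hl
        have h6 : σ y = 0 := hy
        rw [map_sub, h6, h1, map_one, map_one, one_mul, zero_sub, neg_eq_zero] at h5
        exact h5
      have := J.add_mem hl (hJ l h4)
      rwa [sub_add_cancel] at this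
    obtain ⟨n, hn⟩ := (isArtinianRing_iff_isNilpotent_maximalIdeal A).mp inferInstance
    refine ⟨n, le_bot_iff.1 ((Ideal.pow_right_mono h3 n).trans ?_)⟩
    rw [← Ideal.map_pow, hn]
    exact (Ideal.map_bot).le

end K606.Sig
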