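import Groth.Agent.CurvSt.K606.Mil
import Groth.Agent.CurvSt.K606.Obj
import Groth.Agent.CurvSt.K606.NilLift
import Groth.Agent.CurvSt.K606.Sig
import Groth.Agent.CurvSt.K902.LiftGlue
import Groth.Agent.S12707

/-!
# Smoothness of the chart implies unobstructedness
-/

set_option autoImplicit false
set_option backward.isDefEq.respectTransparency false
set_option backward.isDefEq.respectTransparency.types false

universe v₂ u₂ u

open CategoryTheory CategoryTheory.Limits AlgebraicGeometry Opposite K862.Fib K862.Yon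
open K606.Obj K606.NilLift

namespace K606.Fwd

open CurvSt AlgSp

/-- The scheme family of an object over `T`. -/
theorem exists_scheme' {S : Scheme.{u}} [FibCat.IsFibGrpd (Curves S 0).p] {T₀ T : Over S} {X₀ : Scheme.{u}}
    {f₀ : X₀ ⟶ T₀.left} (h₀ : Good f₀) (O : (Curves S 0).p.Fiber T)
    (j : T₀ ⟶ T) (hj : MoreMor.IsFiniteOrderThickening j.left) (α : fam T₀ f₀ h₀ ⟶ O.1)
    [hα : (Curves S 0).p.IsHomLift j α] :
    ∃ (X : Scheme.{u}) (f : X ⟶ T.left) (h : Good f) (β : fam T f h ⟶ O.1)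
      (_ : (Curves S 0).p.IsHomLift (𝟙 T) β) (a : X₀ ⟶ X) (sq : IsPullback a f₀ f j.left),
      famMap h h₀ j a sq ≫ β = α := by
  obtain ⟨O, rfl⟩ := O
  exact exists_scheme h₀ O j hj α

section core

variable {S : Scheme.{u}} [FibCat.IsFibGrpd (Curves S 0).p] {U : Over S}
  (y : FibCat.overCat U ⥤ᵇ Curves S 0) (hy : AlgSt.RepByAlgSpWith (AlgSp.LocP @Smooth) y) [Smooth U.hom]

include hy in
/-- Lifting a family from `A` to `B'` through the chart, up to base change to `A'`. -/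
theorem core {A A' B' K : Type u} [CommRing A] [CommRing A'] [CommRing B'] [CommRing K] (r : A →+* A') (s : B' →+* A')
    (hs : Function.Surjective s) (hs2 : RingHom.ker s ^ 2 = ⊥) (σ : A' →+* K) (hσ : Function.Surjective σ)
    (hσ2 : IsNilpotent (RingHom.ker σ)) {a : Spec (CommRingCat.of A) ⟶ S} {a' : Spec (CommRingCat.of A') ⟶ S}
    {b' : Spec (CommRingCat.of B') ⟶ S} {c : Spec (CommRingCat.of K) ⟶ S}
    (wr : Spec.map (CommRingCat.ofHom r) ≫ a = a') (ws : Spec.map (CommRingCat.ofHom s) ≫ b' = a')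
    (wσ : Spec.map (CommRingCat.ofHom σ) ≫ a' = c) {X : Scheme.{u}} {f : X ⟶ Spec (CommRingCat.of A)} (hf : Good f)
    (O : (Curves S 0).obj) (u₀ : Over.mk c ⟶ U) (φ : O ⟶ (objOf y).1) [hφ : (Curves S 0).p.IsHomLift u₀ φ]
    (ψ : O ⟶ fam (Over.mk a) f hf) [hψ : (Curves S 0).p.IsHomLift (mor σ wσ ≫ mor r wr) ψ] :
    ∃ (X' XB : Scheme.{u}) (f' : X' ⟶ Spec (CommRingCat.of A')) (fB : XB ⟶ Spec (CommRingCat.of B')) (j : X' ⟶ X)
      (i : X' ⟶ XB), Good fB ∧ IsPullback j f' f (Spec.map (CommRingCat.ofHom r)) ∧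
        IsPullback i f' fB (Spec.map (CommRingCat.ofHom s)) := by
  let X' : Scheme.{u} := pullback f (Spec.map (CommRingCat.ofHom r))
  let f' : X' ⟶ Spec (CommRingCat.of A') := pullback.snd _ _
  let j : X' ⟶ X := pullback.fst _ _
  have sq : IsPullback j f' f (Spec.map (CommRingCat.ofHom r)) := IsPullback.of_hasPullback _ _
  have hf' : Good f' := hf.of_isPullback sq
  let γ : fam (Over.mk a') f' hf' ⟶ fam (Over.mk a) f hf := famMap hf hf' (mor r wr) j sq
  let ψ' : O ⟶ fam (Over.mk a') f' hf' := fill (Curves S 0).p (mor r wr) (mor σ wσ) rfl γ ψ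
  obtain ⟨gA, hgA, χ, hχ⟩ := hasLift_of_isNilpotent y hy σ hσ hσ2 wσ u₀ O ⟨fam (Over.mk a') f' hf', rfl⟩ φ hφ ψ' inferInstance
  have ht : MoreMor.IsFirstOrderThickening (Spec.map (CommRingCat.ofHom s)) := isFirstOrderThickening s hs hs2
  have ht' : MoreMor.IsFirstOrderThickening (mor (S := S) s ws).left := ht
  obtain ⟨l, hl1, hl2⟩ := K902.LiftGlue.exists_lift_smooth U.hom (Spec.map (CommRingCat.ofHom s)) ht gA.left b'
    (by rw [Over.w gA]; exact ws)
  let gB : Over.mk b' ⟶ U := Over.homMk l hl2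
  have hgB : mor s ws ≫ gB = gA := Over.OverMorphism.ext hl1
  let OB := pull gB (objOf y)
  let α : fam (Over.mk a') f' hf' ⟶ OB.1 := fill (Curves S 0).p gB (mor s ws) hgB.symm (pullHom gB (objOf y)) χ
  obtain ⟨XB, fB, hB, β, hβ, i, sqi, -⟩ := exists_scheme' hf' OB (mor s ws)
    (K902.LiftGlue.isFiniteOrder ht') α
  exact ⟨X', XB, f', fB, j, i, hB, sq, sqi⟩

end core

section milnor

open Groth.Agent.FlatB.PushRing

/-- Flat lifts from a family over the fibre product ring and a retraction. -/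
theorem hasFLift_of_milnor {A A' B B' : Type u} [CommRing A] [CommRing A'] [CommRing B] [CommRing B'] (r : A →+* A')
    (s : B' →+* A') (hs : Function.Surjective s) (hs2 : RingHom.ker s ^ 2 = ⊥) (m : B →+* A)
    (φ : eqL s r →+* B) (hφ : m.comp φ = eqL.snd s r) {X X' XB : Scheme.{u}} {f : X ⟶ Spec (CommRingCat.of A)}
    {f' : X' ⟶ Spec (CommRingCat.of A')} {fB : XB ⟶ Spec (CommRingCat.of B')} [Flat f] [Flat fB] {j : X' ⟶ X} {i : X' ⟶ XB}
    (sq : IsPullback j f' f (Spec.map (CommRingCat.ofHom r))) (sq' : IsPullback i f' fB (Spec.map (CommRingCat.ofHom s))) :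
    ∃ (Z : Scheme.{u}) (g : Z ⟶ Spec (CommRingCat.of B)) (h : X ⟶ Z), Flat g ∧
      IsPullback h f g (Spec.map (CommRingCat.ofHom m)) := by
  have hsurj : Function.Surjective (Spec.map (CommRingCat.ofHom s)) :=
    (isFirstOrderThickening s hs hs2).1.2.surj
  obtain ⟨W, a, b, g, hg, h1, -, -⟩ := K606.Mil.exists_glue (K606.Phi.isMilnor_eqL s r hs) hsurj sq' sq
  refine ⟨pullback g (Spec.map (CommRingCat.ofHom φ)), pullback.snd _ _, ?_⟩
  have e : Spec.map (CommRingCat.ofHom m) ≫ Spec.map (CommRingCat.ofHom φ) = Spec.map (CommRingCat.ofHom (eqL.snd s r)) := by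
    rw [← Spec.map_comp, ← CommRingCat.ofHom_comp, hφ]
  have w : b ≫ g = (f ≫ Spec.map (CommRingCat.ofHom m)) ≫ Spec.map (CommRingCat.ofHom φ) := by
    rw [Category.assoc, e, h1.w]
  refine ⟨pullback.lift b (f ≫ Spec.map (CommRingCat.ofHom m)) w, inferInstance, ?_⟩
  refine IsPullback.of_right (h₁₂ := pullback.fst g (Spec.map (CommRingCat.ofHom φ))) (v₁₃ := g)
    (h₂₂ := Spec.map (CommRingCat.ofHom φ)) ?_ (pullback.lift_snd _ _ _) (IsPullback.of_hasPullback _ _)
  rw [pullback.lift_fst, e]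
  exact h1

end milnor

section main

open ArtFun ArtFun.Art K185.FlatLift TensorProduct

variable {Λ k : Type u} [CommRing Λ] [Field k] [Algebra Λ k]

/-- The structure morphism of the spectrum of an algebra. -/
noncomputable abbrev str (Λ A : Type u) [CommRing Λ] [CommRing A] [Algebra Λ A] :
    Spec (CommRingCat.of A) ⟶ Spec (CommRingCat.of Λ) := Spec.map (CommRingCat.ofHom (algebraMap Λ A))

theorem good_of_def {X : Scheme.{u}} {x : X ⟶ specPt k} (hG : Good x) {A : Art Λ k} (ξ : DefSch X x A) : Good ξ.f :=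
  Good.of_lift (K185.DefLift.isFiniteOrderThickening_specRes A) ξ.isPullback ξ.flat hG

theorem specRes_str (A : Art Λ k) : specRes A ≫ str Λ A = str Λ k := by
  change Spec.map _ ≫ Spec.map _ = Spec.map _
  rw [← Spec.map_comp, ← CommRingCat.ofHom_comp]
  congr 2
  exact A.res.comp_algebraMap

/-- **The lifting step.** -/
theorem hasFLift [IsLocalRing Λ] [FibCat.IsFibGrpd (Curves (Spec (CommRingCat.of Λ)) 0).p]
    (hk : Function.Surjective (algebraMap Λ k)) {U : Over (Spec (CommRingCat.of Λ))}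
    (y : FibCat.overCat U ⥤ᵇ Curves (Spec (CommRingCat.of Λ)) 0) (hy : AlgSt.RepByAlgSpWith (AlgSp.LocP @Smooth) y)
    [Smooth U.hom] {X : Scheme.{u}} {x : X ⟶ specPt k} (hG : Good x) (K : Type u) [Field K] [Algebra k K]
    [FiniteDimensional k K] (O : (Curves (Spec (CommRingCat.of Λ)) 0).obj)
    (u₀ : Over.mk (Spec.map (CommRingCat.ofHom (algebraMap k K)) ≫ str Λ k) ⟶ U) (φ : O ⟶ (objOf y).1)
    [hφ : (Curves (Spec (CommRingCat.of Λ)) 0).p.IsHomLift u₀ φ] (ψ : O ⟶ fam (Over.mk (str Λ k)) x hG)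
    [hψ : (Curves (Spec (CommRingCat.of Λ)) 0).p.IsHomLift (mor (a := str Λ k) (algebraMap k K) rfl) ψ]
    {B A : Art Λ k} (μ : B ⟶ A) (hμ : Function.Surjective μ) (hsq : RingHom.ker μ.toAlgHom.toRingHom ^ 2 = ⊥)
    (ξ : DefSch X x A) : HasFLift (specMap μ) ξ.f := by
  obtain ⟨Λ', _, _, _, _, ρ, t, hρ, hker, hcomp, ht⟩ := K606.Alg.exists_ext hk K
  obtain ⟨σ, hσ1, hσ2, hσ3, hσ4⟩ := K606.Sig.exists_sigma hk A ρ hρ hker hcomp
  obtain ⟨π, hπ⟩ := K606.Phi.exists_phi t ht μ.toAlgHom hμ hsq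
  let r : A →+* A ⊗[Λ] Λ' := K606.Phi.rMap Λ Λ' A
  let s : B ⊗[Λ] Λ' →+* A ⊗[Λ] Λ' := K606.Phi.sMap μ.toAlgHom
  have hs : Function.Surjective s := K606.Alg.map_surjective μ.toAlgHom hμ
  have hskr : RingHom.ker s ^ 2 = ⊥ := by
    rw [show RingHom.ker s = _ from K606.Alg.ker_map μ.toAlgHom hμ, ← Ideal.map_pow, hsq, Ideal.map_bot]
  have hGξ := good_of_def hG ξ
  have e1 : s.comp (algebraMap Λ (B ⊗[Λ] Λ')) = r.comp (algebraMap Λ A) :=
    ((Algebra.TensorProduct.map μ.toAlgHom (AlgHom.id Λ Λ')).comp_algebraMap).trans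
      ((Algebra.TensorProduct.includeLeft : A →ₐ[Λ] A ⊗[Λ] Λ').comp_algebraMap).symm
  have e2 : σ.comp r = (algebraMap k K).comp A.res.toRingHom := RingHom.ext hσ1
  have ws : Spec.map (CommRingCat.ofHom s) ≫ str Λ (B ⊗[Λ] Λ') = Spec.map (CommRingCat.ofHom r) ≫ str Λ A := by
    rw [← Spec.map_comp, ← Spec.map_comp, ← CommRingCat.ofHom_comp, ← CommRingCat.ofHom_comp, e1]
  have e3 : Spec.map (CommRingCat.ofHom σ) ≫ Spec.map (CommRingCat.ofHom r) =
      Spec.map (CommRingCat.ofHom (algebraMap k K)) ≫ specRes A := by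
    rw [← Spec.map_comp, ← Spec.map_comp, ← CommRingCat.ofHom_comp, ← CommRingCat.ofHom_comp, e2]
  have wσ : Spec.map (CommRingCat.ofHom σ) ≫ Spec.map (CommRingCat.ofHom r) ≫ str Λ A =
      Spec.map (CommRingCat.ofHom (algebraMap k K)) ≫ str Λ k := by
    rw [← Category.assoc, e3, Category.assoc, specRes_str]
  let g₁ : Over.mk (str Λ k) ⟶ Over.mk (str Λ A) := Over.homMk (specRes A) (specRes_str A)
  let γ := famMap (T := Over.mk (str Λ A)) hGξ hG g₁ ξ.i ξ.isPullback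
  have e4 : mor (S := Spec (CommRingCat.of Λ)) (algebraMap k K) (a := str Λ k) rfl ≫ g₁ =
      mor σ wσ ≫ mor (a := str Λ A) r rfl := Over.OverMorphism.ext e3.symm
  have hψ' : (Curves (Spec (CommRingCat.of Λ)) 0).p.IsHomLift (mor σ wσ ≫ mor (a := str Λ A) r rfl) (ψ ≫ γ) := by
    rw [← e4]
    infer_instance
  obtain ⟨X', XB, f', fB, j, i, hB, sq, sq'⟩ := core y hy r s hs hskr σ hσ3 hσ4 rfl ws wσ hGξ O u₀ φ (ψ ≫ γ)
  have := hB.flat
  obtain ⟨Z, g, h, hg, hsqZ⟩ := hasFLift_of_milnor r s hs hskr μ.toAlgHom.toRingHom π hπ sq sq'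
  have := hGξ.lfp
  have h3 : LocallyOfFiniteType g := (Groth.Agent.S1309.result h (specMap μ) ξ.f g
    (K185.DefLift.isFiniteOrderThickening_specMap μ hμ) hsqZ).mp inferInstance
  exact ⟨Z, h, g, hg, inferInstance, hsqZ⟩

/-- **A smooth chart through the point implies that the deformation functor is unobstructed.** -/
theorem isSmoothFunctor [IsLocalRing Λ] [IsNoetherianRing Λ] [FibCat.IsFibGrpd (Curves (Spec (CommRingCat.of Λ)) 0).p]
    (hk : Function.Surjective (algebraMap Λ k)) {U : Over (Spec (CommRingCat.of Λ))}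
    (y : FibCat.overCat U ⥤ᵇ Curves (Spec (CommRingCat.of Λ)) 0) (hy : AlgSt.RepByAlgSpWith (AlgSp.LocP @Smooth) y)
    [Smooth U.hom] {X : Scheme.{u}} {x : X ⟶ specPt k} (hG : Good x) (K : Type u) [Field K] [Algebra k K]
    [FiniteDimensional k K] (O : (Curves (Spec (CommRingCat.of Λ)) 0).obj)
    (u₀ : Over.mk (Spec.map (CommRingCat.ofHom (algebraMap k K)) ≫ str Λ k) ⟶ U) (φ : O ⟶ (objOf y).1)
    [hφ : (Curves (Spec (CommRingCat.of Λ)) 0).p.IsHomLift u₀ φ] (ψ : O ⟶ fam (Over.mk (str Λ k)) x hG)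
    [hψ : (Curves (Spec (CommRingCat.of Λ)) 0).p.IsHomLift (mor (a := str Λ k) (algebraMap k K) rfl) ψ] :
    ArtFun.IsSmoothFunctor (ArtFun.defFunctor (Λ := Λ) X x) := by
  have : Module.Finite Λ k := Module.Finite.of_surjective (Algebra.linearMap Λ k) hk
  intro B₀ A₀ μ₀ hμ₀
  refine Groth.Agent.S12707.result (fun A B μ => Function.Surjective ((defFunctor (Λ := Λ) X x).map μ)) ?_ ?_ ?_ μ₀ hμ₀
  · intro A B e he
    exact ((isIso_iff_bijective _).1 (inferInstanceAs (IsIso ((defFunctor (Λ := Λ) X x).map e)))).2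
  · intro A B μ hμ
    refine K185.DefLift.surjective_map μ fun ξ => hasFLift hk y hy hG K O u₀ φ ψ μ hμ.1 ?_ ξ
    have h1 : RingHom.ker μ.toAlgHom ≤ IsLocalRing.maximalIdeal B := by
      intro b hb
      rw [B.mem_maximalIdeal_iff, ← Art.res_app μ b]
      exact (congrArg A.res (show μ b = 0 from hb)).trans (map_zero _)
    rw [← le_bot_iff, ← hμ.2.2.2, pow_two]
    exact Ideal.mul_mono_left h1
  · intro A B C p q hp hq
    rw [Functor.map_comp]
    exact hq.comp hp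

end main

end K606.Fwd
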