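import Groth.Agent.S9316
import Groth.Agent.S9268
import Groth.Agent.AlgSp.K633.SmallExtPt

/-!
# Smoothness at rational points from lifting along small extensions with the same residue field
-/

set_option autoImplicit false

universe u

open CategoryTheory CategoryTheory.Limits AlgebraicGeometry IsLocalRing

namespace K606.SmPt

/-- The ring form. -/
theorem isSmoothAt_of_lift {R B K : Type u} [CommRing R] [IsNoetherianRing R] [CommRing B] [Algebra R B]
    [Algebra.FiniteType R B] [Field K] (v : B →+* K) (hv : Function.Surjective (v.comp (algebraMap R B)))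
    (q : Ideal B) [q.IsPrime] (hq : q = RingHom.ker v)
    (H : ∀ (A : Type u) [CommRing A] [IsLocalRing A] [IsArtinianRing A] [Algebra R A] (J : Ideal A), J ^ 2 = ⊥ →
      ∀ (π : A ⧸ J →+* K) (ψ : B →ₐ[R] A ⧸ J), π.comp ψ.toRingHom = v → ∃ χ : B →ₐ[R] A,
        (Ideal.Quotient.mkₐ R J).comp χ = ψ) : Algebra.IsSmoothAt R q := by
  have hvs : Function.Surjective v := fun z => by
    obtain ⟨r, hr⟩ := hv z
    exact ⟨_, hr⟩
  have hfp : Algebra.FinitePresentation R B := Algebra.FinitePresentation.of_finiteType.1 inferInstance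
  have key : ∃ g : B, g ∉ q ∧ Algebra.Smooth R (Localization.Away g) := by
    rw [Groth.Agent.S9268.result R B q]
    let p : Ideal R := Ideal.comap (algebraMap R B) q
    let _ : Algebra (Localization.AtPrime p) (Localization.AtPrime q) :=
      (Localization.localRingHom p q (algebraMap R B) rfl).toAlgebra
    have hloc : IsLocalHom (algebraMap (Localization.AtPrime p) (Localization.AtPrime q)) :=
      Localization.isLocalHom_localRingHom p q (algebraMap R B) rfl
    have hnB : IsNoetherianRing B := Algebra.FiniteType.isNoetherianRing R B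
    have hnq : IsNoetherianRing (Localization.AtPrime q) := IsLocalization.isNoetherianRing q.primeCompl _ hnB
    change CAlgX.IsAdicFormallySmooth (Localization.AtPrime p) (Localization.AtPrime q) _
    rw [Groth.Agent.S9316.result]
    intro A _ _ _ _ _ J hJ _ _ ψ _ hψ
    let _ : Algebra R A := ((algebraMap (Localization.AtPrime p) A).comp (algebraMap R (Localization.AtPrime p))).toAlgebra
    have hst : IsScalarTower R (Localization.AtPrime p) A := .of_algebraMap_eq fun _ => rfl
    -- the residue map of `B_q`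
    let w : Localization.AtPrime q →+* K := IsLocalization.lift (M := q.primeCompl) (g := v) fun y => by
      rw [isUnit_iff_ne_zero]
      intro h0
      exact y.2 ((SetLike.ext_iff.1 hq (y : B)).2 h0)
    have hw : ∀ b : B, w (algebraMap B _ b) = v b := fun b => IsLocalization.lift_eq _ _
    have hws : Function.Surjective w := fun z => by
      obtain ⟨b, hb⟩ := hvs z
      exact ⟨algebraMap B _ b, (hw b).trans hb⟩
    have hwl : IsLocalHom w := IsLocalHom.of_surjective w hws
    let w' : ResidueField (Localization.AtPrime q) →+* K := IsLocalRing.ResidueField.lift w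
    have hw' : ∀ z, w' (residue _ z) = w z := fun z => rfl
    let e := RingEquiv.ofBijective _ hψ
    let π : A ⧸ J →+* K := (w'.comp e.symm.toRingHom).comp (residue (A ⧸ J))
    have hπ : ∀ z : Localization.AtPrime q, π (ψ z) = w z := fun z => by
      change w' (e.symm (residue _ (ψ z))) = _
      have h1 : e (residue _ z) = residue _ (ψ z) := rfl
      rw [← h1, RingEquiv.symm_apply_apply]
      rfl
    let ψ' : B →ₐ[R] A ⧸ J :=
      { toRingHom := ψ.toRingHom.comp (algebraMap B (Localization.AtPrime q))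
        commutes' := fun r => by
          change ψ (algebraMap B _ (algebraMap R B r)) = algebraMap R (A ⧸ J) r
          have h1 : algebraMap B (Localization.AtPrime q) (algebraMap R B r) =
              algebraMap (Localization.AtPrime p) (Localization.AtPrime q) (algebraMap R _ r) :=
            (Localization.localRingHom_to_map p q (algebraMap R B) rfl r).symm
          rw [h1, ψ.commutes]
          rfl }
    obtain ⟨χ, hχ⟩ := H A J hJ π ψ' (RingHom.ext fun b => (hπ _).trans (hw b))
    have hχ' : ∀ b, Ideal.Quotient.mk J (χ b) = ψ (algebraMap B _ b) := fun b =>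
      congrArg (fun h : B →ₐ[R] A ⧸ J => h b) hχ
    have hmk : IsLocalHom (Ideal.Quotient.mk J) := IsLocalHom.of_surjective _ Ideal.Quotient.mk_surjective
    have hunit : ∀ y : q.primeCompl, IsUnit (χ.toRingHom y) := fun y => by
      have h1 : IsUnit (Ideal.Quotient.mk J (χ (y : B))) := by
        rw [hχ']
        exact (IsLocalization.map_units (Localization.AtPrime q) y).map ψ
      exact (isUnit_map_iff (Ideal.Quotient.mk J) _).1 h1
    let c : Localization.AtPrime q →+* A := IsLocalization.lift (M := q.primeCompl) (g := χ.toRingHom) hunit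
    have hc : ∀ b : B, c (algebraMap B _ b) = χ b := fun b => IsLocalization.lift_eq _ _
    have hcR : c.comp (algebraMap (Localization.AtPrime p) (Localization.AtPrime q)) =
        algebraMap (Localization.AtPrime p) A := by
      apply IsLocalization.ringHom_ext (M := p.primeCompl)
      ext r
      have h1 : algebraMap (Localization.AtPrime p) (Localization.AtPrime q) (algebraMap R _ r) =
          algebraMap B (Localization.AtPrime q) (algebraMap R B r) :=
        Localization.localRingHom_to_map p q (algebraMap R B) rfl r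
      change c (algebraMap (Localization.AtPrime p) (Localization.AtPrime q) (algebraMap R _ r)) =
        algebraMap (Localization.AtPrime p) A (algebraMap R _ r)
      rw [h1, hc, χ.commutes]
      rfl
    refine ⟨⟨c, fun r => congrArg (fun h : Localization.AtPrime p →+* A => h r) hcR⟩, ?_⟩
    apply AlgHom.coe_ringHom_injective
    apply IsLocalization.ringHom_ext (M := q.primeCompl)
    ext b
    change Ideal.Quotient.mk J (c (algebraMap B _ b)) = ψ (algebraMap B _ b)
    rw [hc, hχ']
  obtain ⟨g, hg, hsm⟩ := key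
  have h2 : (⟨q, inferInstance⟩ : PrimeSpectrum B) ∈ Algebra.smoothLocus R B :=
    (Algebra.basicOpen_subset_smoothLocus_iff_smooth.2 hsm) hg
  exact h2

theorem surjective_of_isClosedImmersion {R R' : CommRingCat.{u}} (θ : R ⟶ R') (h : IsClosedImmersion (Spec.map θ)) :
    Function.Surjective θ.hom := by
  obtain ⟨-, h2⟩ := IsClosedImmersion.isAffine_surjective_of_isAffine (Spec.map θ)
  have h3 : θ = (Scheme.ΓSpecIso R).inv ≫ (Spec.map θ).appTop ≫ (Scheme.ΓSpecIso R').hom := by
    rw [Scheme.ΓSpecIso_naturality, Iso.inv_hom_id_assoc]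
  rw [h3, CommRingCat.hom_comp, CommRingCat.hom_comp, RingHom.coe_comp, RingHom.coe_comp]
  exact ((ConcreteCategory.bijective_of_isIso _).2.comp h2).comp (ConcreteCategory.bijective_of_isIso _).2

/-- **Smoothness at a rational point** from lifting along square zero extensions of Artinian local rings with the same
residue field. -/
theorem mem_smoothLocus_of_lift {X S : Scheme.{u}} (f : X ⟶ S) [IsLocallyNoetherian S]
    [LocallyOfFinitePresentation f] {K : Type u} [Field K] (v : Spec (CommRingCat.of K) ⟶ X)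
    (hv : IsClosedImmersion (v ≫ f))
    (H : ∀ (A : Type u) [CommRing A] [IsLocalRing A] [IsArtinianRing A] (J : Ideal A), J ^ 2 = ⊥ →
      ∀ (π : A ⧸ J →+* K) (α : Spec (CommRingCat.of (A ⧸ J)) ⟶ X) (β : Spec (CommRingCat.of A) ⟶ S),
        Function.Surjective π → Spec.map (CommRingCat.ofHom π) ≫ α = v →
        Spec.map (CommRingCat.ofHom (Ideal.Quotient.mk J)) ≫ β = α ≫ f →
        ∃ γ : Spec (CommRingCat.of A) ⟶ X, Spec.map (CommRingCat.ofHom (Ideal.Quotient.mk J)) ≫ γ = α ∧ γ ≫ f = β) :
    v (closedPoint K) ∈ f.smoothLocus := by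
  set x : X := v (closedPoint K) with hx
  obtain ⟨_, ⟨U, hU, rfl⟩, hxU, -⟩ :=
    S.isBasis_affineOpens.exists_subset_of_mem_open (Set.mem_univ (f x)) isOpen_univ
  obtain ⟨_, ⟨V, hV, rfl⟩, hxV, e⟩ :=
    X.isBasis_affineOpens.exists_subset_of_mem_open hxU (U.2.preimage f.continuous)
  have e : V ≤ f ⁻¹ᵁ U := e
  replace hU : IsAffineOpen U := hU
  replace hV : IsAffineOpen V := hV
  have hft := f.finiteType_appLE hU hV e
  have : IsNoetherianRing Γ(S, U) := IsLocallyNoetherian.component_noetherian ⟨U, hU⟩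
  rw [Scheme.Hom.mem_smoothLocus, formallySmooth_stalkMap_iff U hU V hV e hxV]
  algebraize [(f.appLE U V e).hom]
  change Algebra.IsSmoothAt Γ(S, U) (hV.primeIdealOf ⟨x, hxV⟩).asIdeal
  -- the point
  have hvV : v ⁻¹ᵁ V = ⊤ :=
    Scheme.preimage_eq_top_of_closedPoint_mem (R := CommRingCat.of K) v hxV
  obtain ⟨ψ, hψ⟩ := K633.SmallExtPt.exists_map_fromSpec hV v hvV
  have hcomp : Spec.map (f.appLE U V e ≫ ψ) ≫ hU.fromSpec = v ≫ f := by
    rw [Spec.map_comp, Category.assoc, hU.SpecMap_appLE_fromSpec f hV e, ← Category.assoc, hψ]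
  have hcl : IsClosedImmersion (Spec.map (f.appLE U V e ≫ ψ)) := by
    have h1 : IsClosedImmersion (Spec.map (f.appLE U V e ≫ ψ) ≫ hU.fromSpec) := by rw [hcomp]; exact hv
    exact IsClosedImmersion.of_comp _ hU.fromSpec
  have hsurj : Function.Surjective (f.appLE U V e ≫ ψ).hom := surjective_of_isClosedImmersion _ hcl
  have hq : (hV.primeIdealOf ⟨x, hxV⟩).asIdeal = RingHom.ker ψ.hom := by
    have h1 : Spec.map ψ (closedPoint K) = hV.primeIdealOf ⟨x, hxV⟩ := by
      apply hV.fromSpec.isOpenEmbedding.injective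
      have h2 : hV.fromSpec (Spec.map ψ (closedPoint K)) = (Spec.map ψ ≫ hV.fromSpec) (closedPoint K) := rfl
      rw [h2, hψ, hV.fromSpec_primeIdealOf ⟨x, hxV⟩]
    rw [← h1]
    ext b
    change b ∈ Ideal.comap ψ.hom (maximalIdeal K) ↔ _
    rw [Ideal.mem_comap, RingHom.mem_ker, IsLocalRing.maximalIdeal_eq_bot, Ideal.mem_bot]
  refine isSmoothAt_of_lift ψ.hom hsurj _ hq ?_
  intro A _ _ _ _ J hJ π g hg
  let a : Γ(S, U) ⟶ CommRingCat.of A := CommRingCat.ofHom (algebraMap Γ(S, U) A)
  let b : Γ(X, V) ⟶ CommRingCat.of (A ⧸ J) := CommRingCat.ofHom g.toRingHom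
  let φ : CommRingCat.of A ⟶ CommRingCat.of (A ⧸ J) := CommRingCat.ofHom (Ideal.Quotient.mk J)
  have hab : a ≫ φ = f.appLE U V e ≫ b := by
    refine CommRingCat.hom_ext (RingHom.ext fun y ↦ ?_)
    exact (g.commutes y).symm
  have hπ : b ≫ CommRingCat.ofHom π = ψ := CommRingCat.hom_ext hg
  obtain ⟨γ, hγ1, hγ2⟩ := H A J hJ π (Spec.map b ≫ hV.fromSpec) (Spec.map a ≫ hU.fromSpec) (by
      intro z
      obtain ⟨y, hy⟩ := hsurj z
      exact ⟨g (algebraMap Γ(S, U) Γ(X, V) y), (congrArg (fun h : Γ(X, V) →+* K => h _) hg).trans hy⟩) (by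
      rw [← Category.assoc, ← Spec.map_comp, hπ, hψ]) (by
      change Spec.map φ ≫ _ = _
      rw [Category.assoc, ← hU.SpecMap_appLE_fromSpec f hV e, ← Spec.map_comp_assoc, hab,
        Spec.map_comp_assoc])
  change Spec.map φ ≫ γ = _ at hγ1
  have hnt : Nontrivial (A ⧸ J) := by
    have : Nontrivial K := inferInstance
    exact π.domain_nontrivial
  have : IsLocalRing (A ⧸ J) := IsLocalRing.of_surjective' (Ideal.Quotient.mk J) Ideal.Quotient.mk_surjective
  have hloc : IsLocalHom φ.hom := IsLocalHom.of_surjective (Ideal.Quotient.mk J) Ideal.Quotient.mk_surjective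
  have hcl2 : (Spec.map b ≫ hV.fromSpec) (closedPoint (A ⧸ J)) ∈ V := by
    have : Set.range hV.fromSpec = V := hV.range_fromSpec
    change _ ∈ (V : Set X)
    rw [← this]
    exact ⟨Spec.map b (closedPoint (A ⧸ J)), rfl⟩
  have hγV : γ ⁻¹ᵁ V = ⊤ := by
    refine Scheme.preimage_eq_top_of_closedPoint_mem (R := CommRingCat.of A) γ ?_
    have h1 : γ (closedPoint A) = (Spec.map φ ≫ γ) (closedPoint (A ⧸ J)) :=
      congrArg γ (Spec_closedPoint (f := φ)).symm
    rw [h1, hγ1]
    exact hcl2
  obtain ⟨χ, hχ⟩ := K633.SmallExtPt.exists_map_fromSpec hV γ hγV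
  have h1 : χ ≫ φ = b := by
    rw [← hχ, ← Spec.map_comp_assoc, cancel_mono, Spec.map_inj] at hγ1
    exact hγ1
  have h2 : f.appLE U V e ≫ χ = a := by
    rw [← hχ, Category.assoc, ← hU.SpecMap_appLE_fromSpec f hV e, ← Spec.map_comp_assoc,
      cancel_mono, Spec.map_inj] at hγ2
    exact hγ2
  exact ⟨{ toRingHom := χ.hom, commutes' := fun r ↦ congr($h2 r) },
    AlgHom.ext fun x ↦ congr($h1 x)⟩

end K606.SmPt
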