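import Groth.Agent.CurvSt.K606.ResSub
import Groth.Agent.CurvSt.K606.SmPt
import Groth.Agent.CurvSt.K606.Fwd
import Groth.Agent.S2155

/-!
# Unobstructedness implies smoothness of the chart
-/

set_option autoImplicit false
set_option backward.isDefEq.respectTransparency false
set_option backward.isDefEq.respectTransparency.types false

universe v₂ u₂ u

open CategoryTheory CategoryTheory.Limits AlgebraicGeometry Opposite K862.Fib K862.Yon
open K606.Obj K606.NilLift K606.Fwd ArtFun ArtFun.Art IsLocalRing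

namespace K606.Back

open CurvSt AlgSp Groth.Agent.FlatB.PushRing

theorem isNilpotent_ker {R K : Type u} [CommRing R] [IsLocalRing R] [IsArtinianRing R] [Field K] (π : R →+* K)
    (hπ : Function.Surjective π) : IsNilpotent (RingHom.ker π) := by
  rw [K606.ResSub.ker_rho π hπ]
  exact (isArtinianRing_iff_isNilpotent_maximalIdeal R).1 inferInstance

section lift

variable {Λ k : Type u} [CommRing Λ] [Field k] [Algebra Λ k] {X : Scheme.{u}} {x : X ⟶ specPt k}

/-- Lifting of deformations. -/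
theorem exists_lift_def (hD : ArtFun.IsSmoothFunctor (ArtFun.defFunctor (Λ := Λ) X x)) {B A : Art Λ k} (μ : B ⟶ A)
    (hμ : Function.Surjective μ) (ξ : DefSch X x A) :
    ∃ (ζ : DefSch X x B) (j : ξ.total ⟶ ζ.total), IsPullback j ξ.f ζ.f (specMap μ) := by
  obtain ⟨q, hq⟩ := hD μ hμ ξ.cl
  induction q using Quotient.inductionOn with
  | h ζ =>
  obtain ⟨e⟩ := Quotient.exact hq
  refine ⟨ζ, e.iso.inv ≫ pullback.fst ζ.f (specMap μ), ?_⟩
  refine IsPullback.of_iso (IsPullback.of_hasPullback ζ.f (specMap μ)) e.iso (Iso.refl _) (Iso.refl _) (Iso.refl _)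
    ?_ ?_ ?_ ?_
  · simp
  · rw [Iso.refl_hom, Category.comp_id]
    exact e.hom_f.symm
  · simp
  · simp

/-- **Lifting families over Artinian rings with a bigger residue field.** -/
theorem exists_lift_family (hD : ArtFun.IsSmoothFunctor (ArtFun.defFunctor (Λ := Λ) X x)) {A K : Type u} [CommRing A]
    [IsLocalRing A] [IsArtinianRing A] [Algebra Λ A] [Field K] [Algebra k K] [FiniteDimensional k K] (J : Ideal A)
    (π : A ⧸ J →+* K) (hπ : Function.Surjective π)
    (hΛ : π.comp (algebraMap Λ (A ⧸ J)) = (algebraMap k K).comp (algebraMap Λ k)) {X₁ XK : Scheme.{u}}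
    {f₁ : X₁ ⟶ Spec (CommRingCat.of (A ⧸ J))} {fK : XK ⟶ Spec (CommRingCat.of K)} [Flat f₁] [Flat x] {i : XK ⟶ X₁}
    {b : XK ⟶ X} (sq1 : IsPullback i fK f₁ (Spec.map (CommRingCat.ofHom π)))
    (sq2 : IsPullback b fK x (Spec.map (CommRingCat.ofHom (algebraMap k K)))) :
    ∃ (X' : Scheme.{u}) (f' : X' ⟶ Spec (CommRingCat.of A)) (j : X₁ ⟶ X'), Flat f' ∧
      IsPullback j f₁ f' (Spec.map (CommRingCat.ofHom (Ideal.Quotient.mk J))) := by
  have hnt : Nontrivial (A ⧸ J) := π.domain_nontrivial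
  have : IsLocalRing (A ⧸ J) := IsLocalRing.of_surjective' (Ideal.Quotient.mk J) Ideal.Quotient.mk_surjective
  have : IsArtinianRing (A ⧸ J) := Ideal.Quotient.mk_surjective.isArtinianRing
  let m : A →ₐ[Λ] A ⧸ J := Ideal.Quotient.mkₐ Λ J
  have hm : Function.Surjective m := Ideal.Quotient.mk_surjective
  let μ := K606.ResSub.artMap π hπ hΛ m hm
  have hμ : Function.Surjective μ := K606.ResSub.artMap_surjective π hπ hΛ m hm
  have hsurj : Function.Surjective (Spec.map (CommRingCat.ofHom π)) := by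
    have h1 := (K185.FlatLift.isFiniteOrderThickening_of_surjective π hπ (isNilpotent_ker π hπ)).1.2
    exact h1.surj
  obtain ⟨W, a, c, g, hg, h1, h2, -⟩ := K606.Mil.exists_glue (K606.Phi.isMilnor_eqL π (algebraMap k K) hπ) hsurj sq1 sq2
  let ξ : DefSch X x (K606.ResSub.art π hπ hΛ) := ⟨W, g, hg, c, h1⟩
  obtain ⟨ζ, j, hj⟩ := exists_lift_def hD μ hμ ξ
  have := ζ.flat
  let p : Spec (CommRingCat.of A) ⟶ spec (K606.ResSub.art (π.comp m.toRingHom) (K606.ResSub.surj_comp π hπ m hm)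
    (K606.ResSub.comp_alg π hΛ m)) := Spec.map (CommRingCat.ofHom (eqL.fst (π.comp m.toRingHom) (algebraMap k K)))
  have e : Spec.map (CommRingCat.ofHom (Ideal.Quotient.mk J)) ≫ p =
      Spec.map (CommRingCat.ofHom (eqL.fst π (algebraMap k K))) ≫ specMap μ := by
    change Spec.map _ ≫ Spec.map _ = Spec.map _ ≫ Spec.map _
    rw [← Spec.map_comp, ← Spec.map_comp]
    rfl
  have hbig : IsPullback (a ≫ j) f₁ ζ.f (Spec.map (CommRingCat.ofHom (Ideal.Quotient.mk J)) ≫ p) := by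
    rw [e]
    exact h2.paste_horiz hj
  have w : (a ≫ j) ≫ ζ.f = (f₁ ≫ Spec.map (CommRingCat.ofHom (Ideal.Quotient.mk J))) ≫ p := by
    rw [Category.assoc]
    exact hbig.w
  refine ⟨pullback ζ.f p, pullback.snd ζ.f p, pullback.lift (a ≫ j) (f₁ ≫ Spec.map (CommRingCat.ofHom (Ideal.Quotient.mk J))) w,
    inferInstance, ?_⟩
  refine IsPullback.of_right (h₁₂ := pullback.fst ζ.f p) (v₁₃ := ζ.f) (h₂₂ := p) ?_ (pullback.lift_snd _ _ _)
    (IsPullback.of_hasPullback _ _)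
  rw [pullback.lift_fst]
  exact hbig

end lift

/-- The lifting step. -/
theorem lift_step {Λ k : Type u} [CommRing Λ] [Field k] [Algebra Λ k]
    [FibCat.IsFibGrpd (Curves (Spec (CommRingCat.of Λ)) 0).p] {U : Over (Spec (CommRingCat.of Λ))}
    (y : FibCat.overCat U ⥤ᵇ Curves (Spec (CommRingCat.of Λ)) 0) (hy : AlgSt.RepByAlgSpWith (AlgSp.LocP @Smooth) y)
    {X : Scheme.{u}} {x : X ⟶ specPt k} (hG : Good x) {K : Type u} [Field K]
    [Algebra k K] [FiniteDimensional k K] (O : (Curves (Spec (CommRingCat.of Λ)) 0).obj)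
    (u₀ : Over.mk (Spec.map (CommRingCat.ofHom (algebraMap k K)) ≫ str Λ k) ⟶ U) (φ : O ⟶ (objOf y).1)
    [hφ : (Curves (Spec (CommRingCat.of Λ)) 0).p.IsHomLift u₀ φ] (ψ : O ⟶ fam (Over.mk (str Λ k)) x hG)
    [hψ : (Curves (Spec (CommRingCat.of Λ)) 0).p.IsHomLift (mor (a := str Λ k) (algebraMap k K) rfl) ψ]
    (hD : ArtFun.IsSmoothFunctor (ArtFun.defFunctor (Λ := Λ) X x)) {A : Type u} [CommRing A] [IsLocalRing A]
    [IsArtinianRing A] (J : Ideal A) (hJ : J ^ 2 = ⊥) (π : A ⧸ J →+* K) (hπ : Function.Surjective π)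
    (b : Spec (CommRingCat.of A) ⟶ Spec (CommRingCat.of Λ)) (α₀ : Spec (CommRingCat.of (A ⧸ J)) ⟶ U.left)
    (w : α₀ ≫ U.hom = Spec.map (CommRingCat.ofHom (Ideal.Quotient.mk J)) ≫ b)
    (hα : Spec.map (CommRingCat.ofHom π) ≫ α₀ = u₀.left) :
    ∃ γ₀ : Spec (CommRingCat.of A) ⟶ U.left, Spec.map (CommRingCat.ofHom (Ideal.Quotient.mk J)) ≫ γ₀ = α₀ ∧
      γ₀ ≫ U.hom = b := by
  obtain ⟨ξ, rfl⟩ := Spec.map_surjective b
  let _ : Algebra Λ A := ξ.hom.toAlgebra
  have hnt : Nontrivial (A ⧸ J) := π.domain_nontrivial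
  have : IsLocalRing (A ⧸ J) := IsLocalRing.of_surjective' (Ideal.Quotient.mk J) Ideal.Quotient.mk_surjective
  have : IsArtinianRing (A ⧸ J) := Ideal.Quotient.mk_surjective.isArtinianRing
  have wπ : Spec.map (CommRingCat.ofHom π) ≫ Spec.map (CommRingCat.ofHom (Ideal.Quotient.mk J)) ≫ Spec.map ξ =
      Spec.map (CommRingCat.ofHom (algebraMap k K)) ≫ str Λ k := by
    rw [← w, ← Category.assoc, hα]
    exact Over.w u₀
  have hΛ : π.comp (algebraMap Λ (A ⧸ J)) = (algebraMap k K).comp (algebraMap Λ k) := by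
    have h1 := wπ
    rw [← Spec.map_comp, ← Spec.map_comp, ← Spec.map_comp, Spec.map_inj] at h1
    exact congrArg CommRingCat.Hom.hom h1
  let g₀ : Over.mk (Spec.map (CommRingCat.ofHom (Ideal.Quotient.mk J)) ≫ Spec.map ξ) ⟶ U := Over.homMk α₀ w
  have hg₀ : u₀ = mor π wπ ≫ g₀ := Over.OverMorphism.ext hα.symm
  let O₁ := pull g₀ (objOf y)
  let XK : Scheme.{u} := pullback x (Spec.map (CommRingCat.ofHom (algebraMap k K)))
  let fK : XK ⟶ Spec (CommRingCat.of K) := pullback.snd _ _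
  let bK : XK ⟶ X := pullback.fst _ _
  have sqK : IsPullback bK fK x (Spec.map (CommRingCat.ofHom (algebraMap k K))) := IsPullback.of_hasPullback _ _
  have hGK : Good fK := hG.of_isPullback sqK
  let γK : fam (Over.mk (Spec.map (CommRingCat.ofHom (algebraMap k K)) ≫ str Λ k)) fK hGK ⟶
      fam (Over.mk (str Λ k)) x hG := famMap hG hGK (mor (a := str Λ k) (algebraMap k K) rfl) bK sqK
  let θ : fam (Over.mk (Spec.map (CommRingCat.ofHom (algebraMap k K)) ≫ str Λ k)) fK hGK ⟶ O :=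
    fill (Curves (Spec (CommRingCat.of Λ)) 0).p (mor (a := str Λ k) (algebraMap k K) rfl) (𝟙 _)
      (Category.id_comp _).symm ψ γK
  let α₁ := θ ≫ fill (Curves (Spec (CommRingCat.of Λ)) 0).p g₀ (mor π wπ) hg₀ (pullHom g₀ (objOf y)) φ
  have hα₁ : (Curves (Spec (CommRingCat.of Λ)) 0).p.IsHomLift (mor π wπ) α₁ :=
    IsHomLift.comp_lift_id_left _ _ _ _
  have hth : MoreMor.IsFiniteOrderThickening (mor (S := Spec (CommRingCat.of Λ)) π wπ).left :=
    K185.FlatLift.isFiniteOrderThickening_of_surjective π hπ (isNilpotent_ker π hπ)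
  obtain ⟨X₁, f₁, h₁, β₁, hβ₁, i₁, sq₁, -⟩ := exists_scheme' hGK O₁ (mor π wπ) hth α₁
  have hf1 := h₁.flat
  have hfx := hG.flat
  obtain ⟨X', f', j, hf', sqj⟩ := exists_lift_family (f₁ := f₁) hD J π hπ hΛ sq₁ sqK
  have hfot : MoreMor.IsFirstOrderThickening (Spec.map (CommRingCat.ofHom (Ideal.Quotient.mk J))) :=
    isFirstOrderThickening (Ideal.Quotient.mk J) Ideal.Quotient.mk_surjective (by rw [Ideal.mk_ker]; exact hJ)
  have hG' : Good f' := Good.of_lift (K902.LiftGlue.isFiniteOrder hfot) sqj hf' h₁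
  have hβφ : (Curves (Spec (CommRingCat.of Λ)) 0).p.IsHomLift g₀ (β₁ ≫ pullHom g₀ (objOf y)) :=
    IsHomLift.comp_lift_id_left _ _ _ _
  let j' : Over.mk (Spec.map (CommRingCat.ofHom (Ideal.Quotient.mk J)) ≫ Spec.map ξ) ⟶ Over.mk (Spec.map ξ) :=
    mor (a := Spec.map ξ) (Ideal.Quotient.mk J) rfl
  have : IsAffine (Over.mk (Spec.map ξ)).left := inferInstanceAs (IsAffine (Spec (CommRingCat.of A)))
  obtain ⟨g, hg, -⟩ := exists_lift_obj y hy j' hfot g₀
    (fam (Over.mk (Spec.map (CommRingCat.ofHom (Ideal.Quotient.mk J)) ≫ Spec.map ξ)) f₁ h₁)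
    ⟨fam (Over.mk (Spec.map ξ)) f' hG', rfl⟩ (β₁ ≫ pullHom g₀ (objOf y)) (famMap hG' h₁ j' j sqj)
  exact ⟨g.left, congrArg CommaMorphism.left hg, Over.w g⟩

/-- **The chart is smooth at points whose deformation functor is unobstructed.** -/
theorem mem_smoothLocus {Λ k : Type u} [CommRing Λ] [Field k] [Algebra Λ k] [IsLocalRing Λ] [IsNoetherianRing Λ]
    [FibCat.IsFibGrpd (Curves (Spec (CommRingCat.of Λ)) 0).p]
    (hk : Function.Surjective (algebraMap Λ k)) {U : Over (Spec (CommRingCat.of Λ))}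
    (y : FibCat.overCat U ⥤ᵇ Curves (Spec (CommRingCat.of Λ)) 0) (hy : AlgSt.RepByAlgSpWith (AlgSp.LocP @Smooth) y)
    [LocallyOfFinitePresentation U.hom] {X : Scheme.{u}} {x : X ⟶ specPt k} (hG : Good x) (K : Type u) [Field K]
    [Algebra k K] [FiniteDimensional k K] (O : (Curves (Spec (CommRingCat.of Λ)) 0).obj)
    (u₀ : Over.mk (Spec.map (CommRingCat.ofHom (algebraMap k K)) ≫ str Λ k) ⟶ U) (φ : O ⟶ (objOf y).1)
    [hφ : (Curves (Spec (CommRingCat.of Λ)) 0).p.IsHomLift u₀ φ] (ψ : O ⟶ fam (Over.mk (str Λ k)) x hG)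
    [hψ : (Curves (Spec (CommRingCat.of Λ)) 0).p.IsHomLift (mor (a := str Λ k) (algebraMap k K) rfl) ψ]
    (hD : ArtFun.IsSmoothFunctor (ArtFun.defFunctor (Λ := Λ) X x)) :
    u₀.left (closedPoint K) ∈ U.hom.smoothLocus := by
  obtain ⟨Λ', _, _, _, _, ρ, t, hρ, hker, hcomp, -⟩ := K606.Alg.exists_ext hk K
  have hflat := hG.flat
  let g : Spec (CommRingCat.of Λ') ⟶ Spec (CommRingCat.of Λ) := str Λ Λ'
  have hgf : Flat g := by
    refine (HasRingHomProperty.Spec_iff (P := @Flat)).2 ?_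
    exact (RingHom.flat_algebraMap_iff).2 inferInstance
  have : IsNoetherianRing Λ' := IsNoetherianRing.of_finite Λ Λ'
  let f' : pullback U.hom g ⟶ Spec (CommRingCat.of Λ') := pullback.snd _ _
  let g' : pullback U.hom g ⟶ U.left := pullback.fst _ _
  have hS : g' ⁻¹ᵁ U.hom.smoothLocus = f'.smoothLocus :=
    (Groth.Agent.S2155.result U.hom g f' g' (IsPullback.of_hasPullback _ _) (Or.inr hgf)).symm
  have hcomp' : Spec.map (CommRingCat.ofHom ρ) ≫ g = Spec.map (CommRingCat.ofHom (algebraMap k K)) ≫ str Λ k := by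
    rw [← Spec.map_comp, ← Spec.map_comp, ← CommRingCat.ofHom_comp, ← CommRingCat.ofHom_comp, hcomp]
  have hu₀ : u₀.left ≫ U.hom = Spec.map (CommRingCat.ofHom ρ) ≫ g := (Over.w u₀).trans hcomp'.symm
  let v : Spec (CommRingCat.of K) ⟶ pullback U.hom g := pullback.lift u₀.left (Spec.map (CommRingCat.ofHom ρ)) hu₀
  have hv1 : v ≫ g' = u₀.left := pullback.lift_fst _ _ _
  have hv2 : v ≫ f' = Spec.map (CommRingCat.ofHom ρ) := pullback.lift_snd _ _ _
  have hvx : g' (v (closedPoint K)) = u₀.left (closedPoint K) := by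
    rw [← hv1]; rfl
  rw [← hvx]
  change v (closedPoint K) ∈ g' ⁻¹ᵁ U.hom.smoothLocus
  rw [hS]
  refine K606.SmPt.mem_smoothLocus_of_lift f' v (by rw [hv2]; exact IsClosedImmersion.spec_of_surjective _ hρ) ?_
  intro A _ _ _ J hJ π α β hπ hαπ hαβ
  have w : (α ≫ g') ≫ U.hom = Spec.map (CommRingCat.ofHom (Ideal.Quotient.mk J)) ≫ β ≫ g := by
    rw [Category.assoc, pullback.condition, ← Category.assoc, ← hαβ, Category.assoc]
  obtain ⟨γ₀, h1, h2⟩ := lift_step y hy hG O u₀ φ ψ hD J hJ π hπ (β ≫ g) (α ≫ g') w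
    (by rw [← Category.assoc, hαπ, hv1])
  refine ⟨pullback.lift γ₀ β h2, ?_, pullback.lift_snd _ _ _⟩
  apply pullback.hom_ext
  · rw [Category.assoc, pullback.lift_fst, h1]
  · rw [Category.assoc, pullback.lift_snd, hαβ]

end K606.Back
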