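import Groth.Agent.CurvSt.K606.NilLift
import Groth.Agent.AlgSp.K641.ColimSch
import Groth.Agent.AlgSt.K735.Top
import Mathlib.RingTheory.Jacobson.Ring

/-!
# Finite points of smooth charts
-/

set_option autoImplicit false
set_option backward.isDefEq.respectTransparency false
set_option backward.isDefEq.respectTransparency.types false

universe v₂ u₂ u

open CategoryTheory CategoryTheory.Limits AlgebraicGeometry Opposite K862.Fib K862.Yon
open K735.Fib K735.Fp K735.Rep K745.Lift K606.NilLift AlgSp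

namespace K606.Point

/-- A nonempty affine scheme locally of finite type over a field has a finite point. -/
theorem exists_finite_point {k : Type u} [Field k] {W : Scheme.{u}} [IsAffine W] [Nonempty W]
    (h : W ⟶ Spec (CommRingCat.of k)) [LocallyOfFiniteType h] :
    ∃ (K : Type u) (_ : Field K) (_ : Algebra k K) (_ : FiniteDimensional k K) (v : Spec (CommRingCat.of K) ⟶ W),
      v ≫ h = Spec.map (CommRingCat.ofHom (algebraMap k K)) := by
  obtain ⟨θ, hθ⟩ := Spec.map_surjective (W.isoSpec.inv ≫ h)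
  have hft : θ.hom.FiniteType := by
    have h1 : LocallyOfFiniteType (Spec.map θ) := by rw [hθ]; infer_instance
    exact (HasRingHomProperty.Spec_iff (P := @LocallyOfFiniteType)).1 h1
  have hne : Nonempty (Spec Γ(W, ⊤)) := ⟨W.isoSpec.hom (Classical.arbitrary W)⟩
  have hnt : Nontrivial Γ(W, ⊤) := by
    obtain ⟨z⟩ := hne
    exact ⟨0, 1, fun h01 => z.2.ne_top ((Ideal.eq_top_iff_one _).2 (h01 ▸ Submodule.zero_mem _))⟩
  obtain ⟨m, hm⟩ := Ideal.exists_maximal Γ(W, ⊤)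
  let _ : Field (Γ(W, ⊤) ⧸ m) := Ideal.Quotient.field m
  let _ : Algebra k (Γ(W, ⊤) ⧸ m) := ((Ideal.Quotient.mk m).comp θ.hom).toAlgebra
  have h2 : ((Ideal.Quotient.mk m).comp θ.hom).FiniteType :=
    (RingHom.FiniteType.of_surjective _ Ideal.Quotient.mk_surjective).comp hft
  have h3 : Algebra.FiniteType k (Γ(W, ⊤) ⧸ m) := h2
  have h4 : Module.Finite k (Γ(W, ⊤) ⧸ m) := finite_of_finite_type_of_isJacobsonRing k (Γ(W, ⊤) ⧸ m)
  refine ⟨Γ(W, ⊤) ⧸ m, inferInstance, inferInstance, h4,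
    Spec.map (CommRingCat.ofHom (Ideal.Quotient.mk m)) ≫ W.isoSpec.inv, ?_⟩
  rw [Category.assoc, ← hθ, ← Spec.map_comp]
  rfl

variable {S : Scheme.{u}} {𝒳 : BasedCategory.{v₂, u₂} (Over S)}

/-- **Finite points of smooth surjective charts.** -/
theorem exists_point [FibCat.IsFibGrpd 𝒳.p] {U : Over S} (x : FibCat.overCat U ⥤ᵇ 𝒳)
    (hx : AlgSt.RepByAlgSpWith (AlgSp.LocP @Smooth) x) (hs : AlgSt.RepByAlgSpWith AlgSp.IsSurjectiveMor x)
    {k : Type u} [Field k] (s : Spec (CommRingCat.of k) ⟶ S) (O : 𝒳.p.Fiber (Over.mk s)) :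
    ∃ (K : Type u) (_ : Field K) (_ : Algebra k K) (_ : FiniteDimensional k K) (O' : 𝒳.obj)
      (u₀ : Over.mk (Spec.map (CommRingCat.ofHom (algebraMap k K)) ≫ s) ⟶ U) (φ : O' ⟶ (objOf x).1) (ψ : O' ⟶ O.1),
      𝒳.p.IsHomLift u₀ φ ∧ 𝒳.p.IsHomLift (mor (a := s) (algebraMap k K) rfl) ψ := by
  obtain ⟨F, e, he, hsm⟩ := hx (Over.mk s) (ofObj O)
  have := K735.Top.isSurjectiveMor_respectsIso (S := S)
  have hsurj : AlgSp.IsSurjectiveMor (q e) := (RepOver.of_rep (hs (Over.mk s) (ofObj O)) e he).2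
  obtain ⟨κ, W, p, hW, hp, hpz⟩ := K641.ColimSch.exists_affine_charts F.property
  let t : Spec (CommRingCat.of k) := Classical.arbitrary _
  obtain ⟨z, -⟩ := hsurj (Points.ofScheme (Over.mk s) t)
  obtain ⟨j, w, -⟩ := hpz z
  obtain ⟨h, hh⟩ := (yon S).map_surjective (p j ≫ q e)
  have hsmh : Smooth h.left := hsm (p j) (𝟙 _) h (hp j) (repWith_id _ _) (by rw [Category.comp_id, hh])
  have := hW j
  have : Nonempty (W j).left := ⟨w⟩
  obtain ⟨K, _, _, _, v, hv⟩ := exists_finite_point (h.left : (W j).left ⟶ Spec (CommRingCat.of k))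
  let v' : Over.mk (Spec.map (CommRingCat.ofHom (algebraMap k K)) ≫ s) ⟶ W j := Over.homMk v (by
    rw [← Over.w h, ← Category.assoc, hv]
    rfl)
  have hv' : v' ≫ h = mor (a := s) (algebraMap k K) rfl := Over.OverMorphism.ext hv
  let σ : (yon S).obj (Over.mk (Spec.map (CommRingCat.ofHom (algebraMap k K)) ≫ s)) ⟶ F.obj := (yon S).map v' ≫ p j
  have hσ : σ ≫ q e = (yon S).map (mor (a := s) (algebraMap k K) rfl) := by
    rw [Category.assoc, ← hh, ← Functor.map_comp, hv']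
  obtain ⟨i⟩ := nonempty_iso_of_sec e (mor (a := s) (algebraMap k K) rfl) σ hσ
  obtain ⟨u₀, ⟨iu⟩⟩ := K902.ChartLift.exists_overMap (liftOfSec e σ)
  obtain ⟨O', φ, ψ, hφ, hψ⟩ := exists_arrow_of_iso (x := x) (y := ofObj O) u₀ (mor (a := s) (algebraMap k K) rfl)
    (whiskerRightIso iu.symm x ≪≫ i)
  have h0 := (objOfOfObj O).2
  exact ⟨K, inferInstance, inferInstance, inferInstance, O', u₀, φ, ψ ≫ (objOfOfObj O).1, hφ,
    IsHomLift.comp_lift_id_right 𝒳.p _ _ _⟩

end K606.Point
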