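import Groth.Agent.CurvSt.K606.Fwd
import Groth.Agent.CurvSt.K606.Point
import Groth.Agent.CurvSt.K902.SelfChart
import Groth.Agent.AlgSt.K743.Locus

/-!
# The forward direction: a smooth open substack gives an unobstructed deformation functor
-/

set_option autoImplicit false
set_option backward.isDefEq.respectTransparency false
set_option backward.isDefEq.respectTransparency.types false

universe v₂ u₂ u

open CategoryTheory CategoryTheory.Limits AlgebraicGeometry Opposite K862.Fib K862.Yon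
open K606.Obj K606.NilLift K606.Fwd

namespace K606.FwdMain

open CurvSt AlgSp

/-- A scheme family which is a family of curves is good. -/
theorem good_of_isCurveFam {S : Scheme.{u}} {T : Over S} {X : Scheme.{u}} {f : X ⟶ T.left}
    (h : IsCurveFam ((toSpFam S 0).obj (mkFam T f))) : Good f := by
  have hid : (yon S).map (𝟙 T) = 𝟙 _ := (yon S).map_id _
  let fo : Over.mk (f ≫ T.hom) ⟶ T := Over.homMk f rfl
  have h1 : IsPullback (𝟙 ((yon S).obj (Over.mk (f ≫ T.hom)))) ((yon S).map fo)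
      ((yon S).map fo) ((yon S).map (𝟙 T)) := by
    rw [hid]
    exact IsPullback.of_horiz_isIso ⟨by simp⟩
  obtain ⟨g1, g2, g3, g4⟩ := K901.SchFib.facts (A := (toSpFam S 0).obj (mkFam T f)) h h1
  exact ⟨g1, g2, g3, g4⟩

/-- Stacks smooth over `S` have charts smooth over `S`. -/
theorem exists_atlas_smooth {S : Scheme.{u}} {𝒳 : BasedCategory.{v₂, u₂} (Over S)}
    (h : AlgSt.LocQ (LocP @Smooth) (FibCat.toSelf 𝒳)) :
    ∃ (U : Over S) (x : FibCat.overCat U ⥤ᵇ 𝒳), AlgSt.RepByAlgSpWith (LocP @Smooth) x ∧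
      AlgSt.RepByAlgSpWith IsSurjectiveMor x ∧ Smooth U.hom := by
  obtain ⟨U, V, x, y, g, -, hx, hxs, hy, hP⟩ := h
  have h1 : Smooth g.left := AlgSp.locP_yon_map hP
  have h2 : Smooth V.hom := K902.SelfChart.smooth_of_repByAlgSpWith hy
  refine ⟨U, x, hx, hxs, ?_⟩
  rw [← Over.w g]
  infer_instance

/-- **The forward direction.** -/
theorem forward {Λ k : Type u} [CommRing Λ] [Field k] [Algebra Λ k] [IsLocalRing Λ] [IsNoetherianRing Λ]
    (hk : Function.Surjective (algebraMap Λ k)) [FibCat.IsFibGrpd (Curves (Spec (CommRingCat.of Λ)) 0).p]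
    {X : Scheme.{u}} {x : X ⟶ ArtFun.Art.specPt k} (hG : Good x)
    (Q : (Curves (Spec (CommRingCat.of Λ)) 0).obj → Prop)
    (hQ : AlgSt.IsOpenSubstack (Curves (Spec (CommRingCat.of Λ)) 0) Q Scheme.fppfPrecoverage)
    (hL : AlgSt.LocQ (AlgSp.LocP @Smooth) (FibCat.toSelf (AlgSt.fullSub (Curves (Spec (CommRingCat.of Λ)) 0) Q)))
    (hQx : Q (fam (Over.mk (str Λ k)) x hG)) :
    ArtFun.IsSmoothFunctor (ArtFun.defFunctor (Λ := Λ) X x) := by
  obtain ⟨U, y, hy, hys, hU⟩ := exists_atlas_smooth hL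
  have := hQ.2.1.isStack.1
  let O₀ : (AlgSt.fullSub (Curves (Spec (CommRingCat.of Λ)) 0) Q).p.Fiber (Over.mk (str Λ k)) := ⟨⟨_, hQx⟩, rfl⟩
  obtain ⟨K, _, _, _, O', u₀, φ, ψ, hφ, hψ⟩ := K606.Point.exists_point y hy hys (str Λ k) O₀
  let y' := BasedFunctor.comp y (AlgSt.subIncl (Curves (Spec (CommRingCat.of Λ)) 0) Q)
  have hy' : AlgSt.RepByAlgSpWith (LocP @Smooth) y' :=
    K743.Locus.locP_comp_openImm K597.etLoc_smooth (fun _ _ f _ => inferInstance) y _ hy hQ.2.2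
  let φ' : O'.obj ⟶ (objOf y').1 := φ.hom
  let ψ' : O'.obj ⟶ fam (Over.mk (str Λ k)) x hG := ψ.hom
  have hφ' : (Curves (Spec (CommRingCat.of Λ)) 0).p.IsHomLift u₀ φ' :=
    (BasedFunctor.isHomLift_iff (AlgSt.subIncl (Curves (Spec (CommRingCat.of Λ)) 0) Q) u₀ φ).2 hφ
  have hψ' : (Curves (Spec (CommRingCat.of Λ)) 0).p.IsHomLift (mor (a := str Λ k) (algebraMap k K) rfl) ψ' :=
    (BasedFunctor.isHomLift_iff (AlgSt.subIncl (Curves (Spec (CommRingCat.of Λ)) 0) Q) _ ψ).2 hψ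
  exact isSmoothFunctor hk y' hy' hG K O'.obj u₀ φ' ψ'

end K606.FwdMain
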