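import Groth.Agent.CurvSt.K606.NilLift
import Groth.Agent.CurvSt.K606.Point
import Groth.Agent.CurvSt.K901.OpenSub
import Groth.Agent.CurvSt.K902.SelfChart
import Groth.Agent.AlgSt.K743.Locus
import Groth.Agent.AlgSt.K735.Top

/-!
# The open substack covered by a smooth chart
-/

set_option autoImplicit false
set_option backward.isDefEq.respectTransparency false
set_option backward.isDefEq.respectTransparency.types false

universe v₂ u₂ u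

open CategoryTheory CategoryTheory.Limits AlgebraicGeometry Opposite K862.Fib K862.Yon
open K735.Fib K735.Fp K735.Rep K745.Lift K606.NilLift AlgSp

namespace K606.Locus

variable {S : Scheme.{u}} {𝒳 : BasedCategory.{v₂, u₂} (Over S)} {V : Over S} (z : FibCat.overCat V ⥤ᵇ 𝒳)

/-- The point `t` of the base of `A` is hit by the chart `z`. -/
def Hit {T : Over S} (A : 𝒳.p.Fiber T) (t : T.left) : Prop :=
  ∃ (T' : Over S) (a : T' ⟶ T) (b : T' ⟶ V) (A' : 𝒳.obj) (φ : A' ⟶ A.1) (ψ : A' ⟶ (objOf z).1) (t' : T'.left),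
    𝒳.p.IsHomLift a φ ∧ 𝒳.p.IsHomLift b ψ ∧ a.left t' = t

section

variable [FibCat.IsFibGrpd 𝒳.p]

/-- Sections of the fibre product from arrows. -/
theorem exists_sec {T : Over S} (A : 𝒳.p.Fiber T) {F : AlgSp.Sp S} (e : AlgSt.ofSp F ⥤ᵇ FibCat.fp (ofObj A) z)
    (he : FibCat.IsEquivOver e) {T' : Over S} (a : T' ⟶ T) (b : T' ⟶ V) {A' : 𝒳.obj} (φ : A' ⟶ A.1)
    (ψ : A' ⟶ (objOf z).1) (hφ : 𝒳.p.IsHomLift a φ) (hψ : 𝒳.p.IsHomLift b ψ) :
    ∃ s : (yon S).obj T' ⟶ F, s ≫ q e = (yon S).map a := by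
  have h0 := (inv (objOfOfObj A)).2
  have h1 : 𝒳.p.IsHomLift a (φ ≫ (inv (objOfOfObj A)).1) := IsHomLift.comp_lift_id_right 𝒳.p a _ _
  obtain ⟨i⟩ := nonempty_iso_of_arrows (x := z) (y := ofObj A) b a ψ (φ ≫ (inv (objOfOfObj A)).1)
  obtain ⟨s, hs, -⟩ := exists_sec_of_iso e he a (AlgSt.overMap b) i
  exact ⟨s, hs⟩

/-- Arrows from sections of the fibre product. -/
theorem exists_arrows {T : Over S} (A : 𝒳.p.Fiber T) {F : AlgSp.Sp S} (e : AlgSt.ofSp F ⥤ᵇ FibCat.fp (ofObj A) z)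
    {T' : Over S} (a : T' ⟶ T) (s : (yon S).obj T' ⟶ F) (hs : s ≫ q e = (yon S).map a) :
    ∃ (b : T' ⟶ V) (A' : 𝒳.obj) (φ : A' ⟶ A.1) (ψ : A' ⟶ (objOf z).1), 𝒳.p.IsHomLift a φ ∧ 𝒳.p.IsHomLift b ψ := by
  obtain ⟨i⟩ := nonempty_iso_of_sec e a s hs
  obtain ⟨b, ⟨ib⟩⟩ := K902.ChartLift.exists_overMap (liftOfSec e s)
  obtain ⟨A', ψ, φ, hψ, hφ⟩ := exists_arrow_of_iso (x := z) (y := ofObj A) b a (whiskerRightIso ib.symm z ≪≫ i)
  have h0 := (objOfOfObj A).2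
  exact ⟨b, A', φ ≫ (objOfOfObj A).1, ψ, IsHomLift.comp_lift_id_right 𝒳.p _ _ _, hψ⟩

/-- The hit locus is the union of the images of smooth morphisms. -/
theorem exists_charts (hz : AlgSt.RepByAlgSpWith (AlgSp.LocP @Smooth) z) {T : Over S} (A : 𝒳.p.Fiber T) :
    ∃ (κ : Type u) (W : κ → Over S) (h : ∀ j, W j ⟶ T), (∀ j, Smooth (h j).left) ∧
      ∀ t, Hit z A t ↔ ∃ j w, (h j).left w = t := by
  obtain ⟨F, e, he, hsm⟩ := hz T (ofObj A)
  obtain ⟨κ, W, p, -, hp, hpz⟩ := K641.ColimSch.exists_affine_charts F.property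
  choose h hh using fun j => (yon S).map_surjective (p j ≫ q e)
  refine ⟨κ, W, h, fun j => hsm (p j) (𝟙 _) (h j) (hp j) (repWith_id _ _) (by rw [Category.comp_id, hh]), fun t => ?_⟩
  constructor
  · rintro ⟨T', a, b, A', φ, ψ, t', hφ, hψ, rfl⟩
    obtain ⟨s, hs⟩ := exists_sec z A e he a b φ ψ hφ hψ
    obtain ⟨j, w, hw⟩ := hpz (Points.ofPt s t')
    refine ⟨j, w, ?_⟩
    have h1 := congrArg (Points.map (q e)) hw
    rw [Points.map_ofPt, Points.map_ofPt, hs, ← hh, K609.Points.ofPt_yon_map, K609.Points.ofPt_yon_map] at h1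
    exact K609.Points.ofScheme_injective _ h1
  · rintro ⟨j, w, rfl⟩
    obtain ⟨b, A', φ, ψ, hφ, hψ⟩ := exists_arrows z A e (h j) (p j) (hh j).symm
    exact ⟨W j, h j, b, A', φ, ψ, w, hφ, hψ, rfl⟩

theorem isOpen_hit (hz : AlgSt.RepByAlgSpWith (AlgSp.LocP @Smooth) z) {T : Over S} (A : 𝒳.p.Fiber T) :
    IsOpen {t : T.left | Hit z A t} := by
  obtain ⟨κ, W, h, hs, H⟩ := exists_charts z hz A
  have h1 : {t : T.left | Hit z A t} = ⋃ j, Set.range (h j).left := by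
    ext t
    rw [Set.mem_ofPred_eq, H, Set.mem_iUnion]
    rfl
  rw [h1]
  exact isOpen_iUnion fun j => (K735.Top.isOpenMap_of_smooth (h j).left (hs j)).isOpen_range

/-- The hit locus is compatible with base change. -/
theorem hit_iff {T T₁ : Over S} (A : 𝒳.p.Fiber T) (B : 𝒳.p.Fiber T₁) (g : T₁ ⟶ T) (χ : B.1 ⟶ A.1)
    [hχ : 𝒳.p.IsHomLift g χ] (t : T₁.left) : Hit z B t ↔ Hit z A (g.left t) := by
  constructor
  · rintro ⟨T', a, b, A', φ, ψ, t', hφ, hψ, rfl⟩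
    exact ⟨T', a ≫ g, b, A', φ ≫ χ, ψ, t', inferInstance, hψ, rfl⟩
  · rintro ⟨T', a, b, A', φ, ψ, t', hφ, hψ, h⟩
    obtain ⟨s, hs1, hs2⟩ := Scheme.Pullback.exists_preimage_pullback (f := g.left) (g := a.left) t t' h.symm
    let P : Over S := Over.mk (pullback.fst g.left a.left ≫ T₁.hom)
    let p1 : P ⟶ T₁ := Over.homMk (pullback.fst g.left a.left) rfl
    have w : pullback.snd g.left a.left ≫ T'.hom = pullback.fst g.left a.left ≫ T₁.hom := by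
      rw [← Over.w a, ← Category.assoc, ← pullback.condition, Category.assoc, Over.w g]
    let p2 : P ⟶ T' := Over.homMk (pullback.snd g.left a.left) w
    have hp : p1 ≫ g = p2 ≫ a := Over.OverMorphism.ext pullback.condition
    let A'' : 𝒳.p.Fiber T' := ⟨A', IsHomLift.domain_eq 𝒳.p a φ⟩
    let C := pull p2 A''
    have h1 : 𝒳.p.IsHomLift (p1 ≫ g) (pullHom p2 A'' ≫ φ) := by
      rw [hp]
      infer_instance
    refine ⟨P, p1, p2 ≫ b, C.1, fill 𝒳.p g p1 rfl χ (pullHom p2 A'' ≫ φ), pullHom p2 A'' ≫ ψ, s, inferInstance,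
      inferInstance, hs1⟩

/-- Surjectivity of a chart from the hit locus. -/
theorem surjective_of_hit {P : MorphismProperty (AlgSp.Sp S)} (hz : AlgSt.RepByAlgSpWith P z)
    (H : ∀ (T : Over S) (A : 𝒳.p.Fiber T) (t : T.left), Hit z A t) :
    AlgSt.RepByAlgSpWith AlgSp.IsSurjectiveMor z := by
  intro T y
  obtain ⟨F, e, he, -⟩ := hz T y
  refine ⟨F, e, he, fun pt => ?_⟩
  obtain ⟨t, rfl⟩ := K609.Points.ofScheme_surjective T pt
  obtain ⟨T', a, b, A', φ, ψ, t', hφ, hψ, rfl⟩ := H T (objOf y) t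
  obtain ⟨i⟩ := nonempty_iso_of_arrows (x := z) (y := y) b a ψ φ
  obtain ⟨s, hs, -⟩ := exists_sec_of_iso e he a (AlgSt.overMap b) i
  refine ⟨Points.ofPt s t', ?_⟩
  change Points.map (q e) _ = _
  rw [Points.map_ofPt, hs, K609.Points.ofPt_yon_map]

/-- The property of objects all of whose points are hit. -/
def QQ (A : 𝒳.obj) : Prop := ∀ t : (𝒳.p.obj A).left, Hit z (⟨A, rfl⟩ : 𝒳.p.Fiber (𝒳.p.obj A)) t

theorem QQ_iff {T : Over S} (A : 𝒳.p.Fiber T) : QQ z A.1 ↔ ∀ t : T.left, Hit z A t := by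
  obtain ⟨A, rfl⟩ := A
  exact Iff.rfl

theorem openLocus (hz : AlgSt.RepByAlgSpWith (AlgSp.LocP @Smooth) z) : K901.OpenSub.OpenLocus 𝒳 (QQ z) := by
  intro A
  refine ⟨⟨_, isOpen_hit z hz (⟨A, rfl⟩ : 𝒳.p.Fiber (𝒳.p.obj A))⟩, fun B φ => ?_⟩
  have hφ : 𝒳.p.IsHomLift (𝒳.p.map φ) φ := IsHomLift.map 𝒳.p φ
  have h1 := hit_iff z (⟨A, rfl⟩ : 𝒳.p.Fiber (𝒳.p.obj A)) (⟨B, rfl⟩ : 𝒳.p.Fiber (𝒳.p.obj B)) (𝒳.p.map φ) φ
  constructor
  · rintro hB _ ⟨t, rfl⟩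
    exact (h1 t).1 (hB t)
  · intro h t
    exact (h1 t).2 (h ⟨t, rfl⟩)

theorem QQ_chart (g : (FibCat.overCat V).obj) : QQ z (z.obj g) := by
  have h1 : QQ z (objAt z g.hom).1 := by
    rw [QQ_iff]
    intro t
    exact ⟨g.left, 𝟙 _, g.hom, (objAt z g.hom).1, 𝟙 _, arrAt z g.hom, t,
      (𝟙 (objAt z g.hom) : objAt z g.hom ⟶ objAt z g.hom).2, inferInstance, rfl⟩
  exact h1

end

/-- **The open substack covered by a smooth chart.** -/
theorem exists_openSubstack (h𝒳 : AlgSt.IsAlgStack Scheme.fppfPrecoverage 𝒳)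
    (hz : AlgSt.RepByAlgSpWith (AlgSp.LocP @Smooth) z) (hV : Smooth V.hom) (O : 𝒳.obj)
    (hO : ∀ t : (𝒳.p.obj O).left, Hit z (⟨O, rfl⟩ : 𝒳.p.Fiber (𝒳.p.obj O)) t) :
    ∃ Q : 𝒳.obj → Prop, AlgSt.IsOpenSubstack 𝒳 Q Scheme.fppfPrecoverage ∧
      AlgSt.LocQ (AlgSp.LocP @Smooth) (FibCat.toSelf (AlgSt.fullSub 𝒳 Q)) ∧ Q O := by
  have := h𝒳.isStack.1
  have hop := openLocus z hz
  have hsub := K901.OpenSub.isOpenSubstack_fppf h𝒳 hop
  refine ⟨QQ z, hsub, ?_, hO⟩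
  have hfib := hsub.2.1.isStack.1
  let z' : FibCat.overCat V ⥤ᵇ AlgSt.fullSub 𝒳 (QQ z) := K743.Locus.subLift z (QQ_chart z)
  have hz' : AlgSt.RepByAlgSpWith (AlgSp.LocP @Smooth) z' := K743.Locus.repByAlgSpWith_of_comp_incl _ z' hz
  refine K902.SelfChart.locQ_smooth_toSelf z' hz' (surjective_of_hit z' hz' ?_) hV
  rintro T ⟨A, rfl⟩ t
  obtain ⟨T', a, b, A', φ, ψ, t', hφ, hψ, h⟩ := A.property t
  have hA' : QQ z A' := hop.stable φ A.property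
  let A'' : (AlgSt.fullSub 𝒳 (QQ z)).obj := ⟨A', hA'⟩
  let φ' : A'' ⟶ A := ObjectProperty.homMk φ
  let ψ' : A'' ⟶ (objOf z').1 := ObjectProperty.homMk ψ
  exact ⟨T', a, b, A'', φ', ψ', t', (BasedFunctor.isHomLift_iff (AlgSt.subIncl 𝒳 (QQ z)) a φ').1 hφ,
    (BasedFunctor.isHomLift_iff (AlgSt.subIncl 𝒳 (QQ z)) b ψ').1 hψ, h⟩

end K606.Locus
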