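import Groth.Agent.CurvSt.K606.FwdMain
import Groth.Agent.CurvSt.K606.Back
import Groth.Agent.CurvSt.K606.Locus

/-!
# The smooth locus of the stack of curves and the deformation functor
-/

set_option autoImplicit false
set_option backward.isDefEq.respectTransparency false
set_option backward.isDefEq.respectTransparency.types false

universe v₂ u₂ u

open CategoryTheory CategoryTheory.Limits AlgebraicGeometry Opposite K862.Fib K862.Yon
open K606.Obj K606.NilLift K606.Fwd

namespace K606.Main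

open CurvSt AlgSp

/-- **The backward direction.** -/
theorem backward {Λ k : Type u} [CommRing Λ] [Field k] [Algebra Λ k] [IsLocalRing Λ] [IsNoetherianRing Λ]
    (hk : Function.Surjective (algebraMap Λ k))
    (hC : AlgSt.IsAlgStack Scheme.fppfPrecoverage (Curves (Spec (CommRingCat.of Λ)) 0))
    (hlfp : AlgSt.LocQ (AlgSp.LocP @LocallyOfFinitePresentation) (FibCat.toSelf (Curves (Spec (CommRingCat.of Λ)) 0)))
    {X : Scheme.{u}} {x : X ⟶ ArtFun.Art.specPt k} (hG : Good x)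
    (hD : ArtFun.IsSmoothFunctor (ArtFun.defFunctor (Λ := Λ) X x)) :
    ∃ Q : (Curves (Spec (CommRingCat.of Λ)) 0).obj → Prop,
      AlgSt.IsOpenSubstack (Curves (Spec (CommRingCat.of Λ)) 0) Q Scheme.fppfPrecoverage ∧
      AlgSt.LocQ (AlgSp.LocP @Smooth) (FibCat.toSelf (AlgSt.fullSub (Curves (Spec (CommRingCat.of Λ)) 0) Q)) ∧
      Q (fam (Over.mk (str Λ k)) x hG) := by
  have := hC.isStack.1
  obtain ⟨U, y, hy, hys, hU⟩ := K902.SelfChart.exists_atlas_lfp hlfp
  obtain ⟨K, _, _, _, O, u₀, φ, ψ, hφ, hψ⟩ := K606.Point.exists_point y hy hys (str Λ k)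
    (⟨fam (Over.mk (str Λ k)) x hG, rfl⟩ : (Curves (Spec (CommRingCat.of Λ)) 0).p.Fiber (Over.mk (str Λ k)))
  have hmem := K606.Back.mem_smoothLocus hk y hy hG K O u₀ φ ψ hD
  let W := U.hom.smoothLocus
  let V : Over (Spec (CommRingCat.of Λ)) := Over.mk (W.ι ≫ U.hom)
  let ι : V ⟶ U := Over.homMk W.ι rfl
  have hV : Smooth V.hom := K633.SmallExtPt.smooth_smoothLocus U.hom
  let z := BasedFunctor.comp (AlgSt.overMap ι) y
  have hz : AlgSt.RepByAlgSpWith (AlgSp.LocP @Smooth) z :=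
    K743.Comp.locP_overMap_comp K597.etLoc_smooth ι (inferInstanceAs (Smooth W.ι)) y hy
  refine K606.Locus.exists_openSubstack z hC hz hV _ ?_
  intro t
  have hrange : Set.range u₀.left ⊆ Set.range W.ι := by
    rintro _ ⟨s, rfl⟩
    rw [Scheme.Opens.range_ι]
    have hs : Subsingleton (Spec (CommRingCat.of K)) := inferInstance
    have : s = IsLocalRing.closedPoint K := hs.elim _ _
    rw [this]
    exact hmem
  let l : Spec (CommRingCat.of K) ⟶ W := IsOpenImmersion.lift W.ι u₀.left hrange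
  have hl : l ≫ W.ι = u₀.left := IsOpenImmersion.lift_fac _ _ _
  let b : Over.mk (Spec.map (CommRingCat.ofHom (algebraMap k K)) ≫ str Λ k) ⟶ V := Over.homMk l (by
    change l ≫ W.ι ≫ U.hom = _
    rw [← Category.assoc, hl]
    exact Over.w u₀)
  have hb : u₀ = b ≫ ι := Over.OverMorphism.ext hl.symm
  have hι : (Curves (Spec (CommRingCat.of Λ)) 0).p.IsHomLift ι (arrAt y (𝟙 V ≫ ι)) := by
    have := arrAt_isHomLift y (𝟙 V ≫ ι)
    rwa [Category.id_comp] at this
  let ψ' : O ⟶ (objOf z).1 := fill (Curves (Spec (CommRingCat.of Λ)) 0).p ι b hb (arrAt y (𝟙 V ≫ ι)) φ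
  refine ⟨_, mor (a := str Λ k) (algebraMap k K) rfl, b, O, ψ, ψ', IsLocalRing.closedPoint K, hψ,
    fill_isHomLift (p := (Curves (Spec (CommRingCat.of Λ)) 0).p) ι b hb (arrAt y (𝟙 V ≫ ι)) φ, ?_⟩
  have hss : Subsingleton (Spec (CommRingCat.of k)) := inferInstance
  exact hss.elim _ _

/-- **Both directions.** -/
theorem main {Λ k : Type u} [CommRing Λ] [Field k] [Algebra Λ k] [IsLocalRing Λ] [IsNoetherianRing Λ]
    (hk : Function.Surjective (algebraMap Λ k))
    (hC : AlgSt.IsAlgStack Scheme.fppfPrecoverage (Curves (Spec (CommRingCat.of Λ)) 0))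
    (hlfp : AlgSt.LocQ (AlgSp.LocP @LocallyOfFinitePresentation) (FibCat.toSelf (Curves (Spec (CommRingCat.of Λ)) 0)))
    {X : Scheme.{u}} {x : X ⟶ ArtFun.Art.specPt k} (hG : Good x) :
    (∃ Q : (Curves (Spec (CommRingCat.of Λ)) 0).obj → Prop,
      AlgSt.IsOpenSubstack (Curves (Spec (CommRingCat.of Λ)) 0) Q Scheme.fppfPrecoverage ∧
      AlgSt.LocQ (AlgSp.LocP @Smooth) (FibCat.toSelf (AlgSt.fullSub (Curves (Spec (CommRingCat.of Λ)) 0) Q)) ∧
      Q (fam (Over.mk (str Λ k)) x hG)) ↔ ArtFun.IsSmoothFunctor (ArtFun.defFunctor (Λ := Λ) X x) := by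
  have := hC.isStack.1
  constructor
  · rintro ⟨Q, h1, h2, h3⟩
    exact K606.FwdMain.forward hk hG Q h1 h2 h3
  · intro hD
    exact backward hk hC hlfp hG hD

end K606.Main
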