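import Groth.Agent.AlgSp.K641.MilExist
import Groth.Agent.AlgSp.K641.MilCube
import Groth.Agent.AlgSp.K641.MilPair

/-!
# Glueing flat schemes along a Milnor square

`exists_glue`: for a Milnor square `B' = B ×_A A'` with `A' → A` surjective with nilpotent (or just homeomorphic) kernel, a flat
scheme over `B` and a flat scheme over `A'` with a common restriction to `A` come from a flat scheme over `B'`.
-/

set_option autoImplicit false
universe u

open CategoryTheory CategoryTheory.Limits AlgebraicGeometry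

namespace K606.Mil

open K641.MilRing K641.MilCat K641.MilSch K641.MilCube K641.MilExist
open Groth.Agent.Pi1C.MilnorEt (IsMilnor)

/-- A square is cartesian if it is so locally on the source of one of the two morphisms. -/
theorem isPullback_of_charts {W T Y TY : Scheme.{u}} {b : Y ⟶ W} {fY : Y ⟶ TY} {f : W ⟶ T} {t : TY ⟶ T}
    (H : ∀ w : W, ∃ (V VY : Scheme.{u}) (c : V ⟶ W) (gY : VY ⟶ Y) (tY : VY ⟶ V) (v : V), IsOpenImmersion c ∧
      IsPullback gY tY b c ∧ IsPullback (gY ≫ fY) tY t (c ≫ f) ∧ c v = w) : IsPullback b fY f t := by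
  choose V VY c gY tY v hc h1 h2 hv using H
  let 𝒰 : W.OpenCover :=
    { I₀ := W
      X := V
      f := c
      mem₀ := by
        rw [Scheme.presieve₀_mem_precoverage_iff]
        exact ⟨fun x => ⟨x, v x, hv x⟩, hc⟩ }
  apply Scheme.isPullback_of_openCover b fY f t 𝒰
  intro w
  change IsPullback (pullback.snd b (c w)) (pullback.fst b (c w) ≫ fY) (c w ≫ f) t
  refine IsPullback.of_iso (h2 w).flip (h1 w).isoPullback (Iso.refl _) (Iso.refl _) (Iso.refl _) ?_ ?_ (by simp) (by simp)
  · simp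
  · simp

variable {B' B A' A : CommRingCat.{u}} {p : B' ⟶ B} {q : B' ⟶ A'} {r : B ⟶ A} {s : A' ⟶ A}

theorem isPullback_Spec (h : IsMilnor p q r s) :
    IsPullback (Spec.map r) (Spec.map s) (Spec.map p) (Spec.map q) :=
  isPullback_SpecMap_of_isPushout _ _ _ _ (isPushout_of_isMilnor h)

/-- **Glueing.** -/
theorem exists_glue (h : IsMilnor p q r s) (hs : Function.Surjective (Spec.map s)) {Z X Y : Scheme.{u}}
    {i : Z ⟶ X} {j : Z ⟶ Y} {fX : X ⟶ Spec A'} {fY : Y ⟶ Spec B} {fZ : Z ⟶ Spec A}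
    (sX : IsPullback i fZ fX (Spec.map s)) (sY : IsPullback j fZ fY (Spec.map r)) [Flat fX] [Flat fY] :
    ∃ (W : Scheme.{u}) (a : X ⟶ W) (b : Y ⟶ W) (f : W ⟶ Spec B'), Flat f ∧ IsPullback b fY f (Spec.map p) ∧
      IsPullback a fX f (Spec.map q) ∧ IsPushout i j a b := by
  have hps := surjective_of_isMilnor h
  have c1 : IsClosedImmersion (Spec.map s) := IsClosedImmersion.spec_of_surjective s h.surj
  have c2 : IsClosedImmersion (Spec.map p) := IsClosedImmersion.spec_of_surjective p hps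
  have c3 : IsClosedImmersion i := MorphismProperty.of_isPullback sX.flip c1
  have c4 : IsAffineHom j := MorphismProperty.of_isPullback sY.flip (inferInstanceAs (IsAffineHom (Spec.map r)))
  have hi : Function.Surjective i := by
    have h1 : Surjective (Spec.map s) := ⟨hs⟩
    have h2 : Surjective i := MorphismProperty.of_isPullback sX.flip h1
    exact h2.surj
  obtain ⟨W, a, b, hpo, hpb, k1, k2, -, -, H⟩ := exists_scheme (i := i) (j := j)
    (fun y => K641.MilPair.exists_pair i hi j y)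
  have w0 : i ≫ fX ≫ Spec.map q = j ≫ fY ≫ Spec.map p := by
    rw [← Category.assoc, sX.w, ← Category.assoc, sY.w, Category.assoc, Category.assoc, (isPullback_Spec h).w]
  let f : W ⟶ Spec B' := hpo.desc (fX ≫ Spec.map q) (fY ≫ Spec.map p) w0
  have hf1 : a ≫ f = fX ≫ Spec.map q := hpo.inl_desc _ _ _
  have hf2 : b ≫ f = fY ≫ Spec.map p := hpo.inr_desc _ _ _
  have key : ∀ w : W, ∃ (V VX VY : Scheme.{u}) (c : V ⟶ W) (gY : VY ⟶ Y) (tY : VY ⟶ V) (gX : VX ⟶ X) (tX : VX ⟶ V)
      (v : V), IsAffine V ∧ IsOpenImmersion c ∧ IsPullback gY tY b c ∧ IsPullback gX tX a c ∧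
        IsPullback (gY ≫ fY) tY (Spec.map p) (c ≫ f) ∧ IsPullback (gX ≫ fX) tX (Spec.map q) (c ≫ f) ∧
        (c ≫ f).appTop.hom.Flat ∧ c v = w := by
    intro w
    obtain ⟨V, VX, VY, c, gY, tY, gX, tX, v, hV, hc, q1, q2, hR, hv⟩ := H w
    have d1 : IsClosedImmersion tY := MorphismProperty.of_isPullback q1 k1
    have d2 : IsAffineHom tX := MorphismProperty.of_isPullback q2 k2
    have d3 : IsOpenImmersion gY := MorphismProperty.of_isPullback q1.flip hc
    have d4 : IsOpenImmersion gX := MorphismProperty.of_isPullback q2.flip hc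
    have a1 : IsAffine VY := isAffine_of_isAffineHom tY
    have a2 : IsAffine VX := isAffine_of_isAffineHom tX
    have sql := IsPullback.of_hasPullback tY tX
    have p1 := sql.flip.paste_horiz q2
    have p2 := sql.paste_horiz q1
    have w1 : (pullback.snd tY tX ≫ gX) ≫ a = (pullback.fst tY tX ≫ gY) ≫ b := by
      rw [Category.assoc, q2.w, Category.assoc, q1.w, ← Category.assoc, ← Category.assoc, sql.w]
    let z : pullback tY tX ⟶ Z := hpb.lift _ _ w1
    have z1 : z ≫ i = pullback.snd tY tX ≫ gX := hpb.lift_fst _ _ _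
    have z2 : z ≫ j = pullback.fst tY tX ≫ gY := hpb.lift_snd _ _ _
    have p3 : IsPullback z (pullback.fst tY tX) j gY := by
      refine IsPullback.of_right (h₁₂ := i) (v₁₃ := a) (h₂₂ := b) ?_ z2 hpb
      rw [z1, q1.w]
      exact p1
    have p4 : IsPullback z (pullback.snd tY tX) i gX := by
      refine IsPullback.of_right (h₁₂ := j) (v₁₃ := b) (h₂₂ := a) ?_ z1 hpb.flip
      rw [z2, q2.w]
      exact p2
    have s1 : IsPullback (pullback.fst tY tX) (z ≫ fZ) (gY ≫ fY) (Spec.map r) := p3.flip.paste_vert sY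
    have s2 : IsPullback (pullback.snd tY tX) (z ≫ fZ) (gX ≫ fX) (Spec.map s) := p4.flip.paste_vert sX
    have hm : (gY ≫ fY) ≫ Spec.map p = tY ≫ c ≫ f := by
      rw [Category.assoc, ← hf2, ← Category.assoc, q1.w, Category.assoc]
    have hn : (gX ≫ fX) ≫ Spec.map q = tX ≫ c ≫ f := by
      rw [Category.assoc, ← hf1, ← Category.assoc, q2.w, Category.assoc]
    obtain ⟨⟨r1, r2⟩, -, r3, -⟩ := scheme_cube (isPullback_Spec h) sql
      (rmil_SpecMap (rmil_of_isMilnor h)) hR hm hn s1 s2
    refine ⟨V, VX, VY, c, gY, tY, gX, tX, v, hV, hc, q1, q2, r1, r2, r3.2 ⟨?_, ?_⟩, hv⟩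
    · exact HasRingHomProperty.appTop @Flat (gY ≫ fY) inferInstance
    · exact HasRingHomProperty.appTop @Flat (gX ≫ fX) inferInstance
  refine ⟨W, a, b, f, ?_, ?_, ?_, hpo⟩
  · choose V VX VY c gY tY gX tX v e1 e2 e3 e4 e5 e6 e7 e8 using key
    let 𝒰 : W.OpenCover :=
      { I₀ := W
        X := V
        f := c
        mem₀ := by
          rw [Scheme.presieve₀_mem_precoverage_iff]
          exact ⟨fun x => ⟨x, v x, e8 x⟩, e2⟩ }
    refine IsZariskiLocalAtSource.of_openCover (P := @Flat) 𝒰 fun w => ?_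
    have := e1 w
    exact (HasRingHomProperty.iff_of_isAffine (P := @Flat)).2 (e7 w)
  · apply isPullback_of_charts
    intro w
    obtain ⟨V, VX, VY, c, gY, tY, gX, tX, v, e1, e2, e3, e4, e5, e6, e7, e8⟩ := key w
    exact ⟨V, VY, c, gY, tY, v, e2, e3, e5, e8⟩
  · apply isPullback_of_charts
    intro w
    obtain ⟨V, VX, VY, c, gY, tY, gX, tX, v, e1, e2, e3, e4, e5, e6, e7, e8⟩ := key w
    exact ⟨V, VX, c, gX, tX, v, e2, e4, e6, e8⟩

end K606.Mil
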