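import Groth.Agent.CurvSt.K606.Alg
import Groth.Agent.FlatB.PushRing
import Groth.Agent.Pi1C.MilnorEtCat

/-!
# The Milnor ring of a base change and its retraction
-/

set_option autoImplicit false
universe u

open TensorProduct CategoryTheory

namespace K606.Phi

open K606.Alg
open Groth.Agent.FlatB.PushRing
open Groth.Agent.Pi1C.MilnorEt (IsMilnor)

/-- Fibre products of rings are Milnor squares. -/
theorem isMilnor_eqL {A' A B : Type u} [CommRing A'] [CommRing A] [CommRing B] (s : A' →+* A) (r : B →+* A)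
    (hs : Function.Surjective s) :
    IsMilnor (CommRingCat.ofHom (eqL.snd s r)) (CommRingCat.ofHom (eqL.fst s r)) (CommRingCat.ofHom r)
      (CommRingCat.ofHom s) where
  w := by
    ext x
    exact (eqL_prop x).symm
  surj := hs
  lift b a h := ⟨⟨(a, b), h.symm⟩, rfl, rfl⟩
  ext _ _ hx hy := eqL.ext hy hx

section phi

variable {Λ : Type u} [CommRing Λ] {Λ' : Type u} [CommRing Λ'] [Algebra Λ Λ'] (t : Λ' →ₗ[Λ] Λ)
  {B A : Type u} [CommRing B] [Algebra Λ B] [CommRing A] [Algebra Λ A]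

/-- `B ⊗ Λ' → A ⊗ Λ'`. -/
noncomputable abbrev sMap (μ : B →ₐ[Λ] A) : B ⊗[Λ] Λ' →+* A ⊗[Λ] Λ' :=
  (Algebra.TensorProduct.map μ (AlgHom.id Λ Λ')).toRingHom

/-- `A → A ⊗ Λ'`. -/
noncomputable abbrev rMap (Λ : Type u) [CommRing Λ] (Λ' : Type u) [CommRing Λ'] [Algebra Λ Λ'] (A : Type u) [CommRing A]
    [Algebra Λ A] : A →+* A ⊗[Λ] Λ' := Algebra.TensorProduct.includeLeftRingHom

theorem exists_decomp (μ : B →ₐ[Λ] A) (hμ : Function.Surjective μ) (c : eqL (sMap (Λ' := Λ') μ) (rMap Λ Λ' A)) :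
    ∃ (b : B) (i : B ⊗[Λ] Λ'), c.1.1 = b ⊗ₜ 1 + i ∧ sMap μ i = 0 ∧ μ b = c.1.2 := by
  obtain ⟨b, hb⟩ := hμ c.1.2
  refine ⟨b, c.1.1 - b ⊗ₜ 1, by abel, ?_, hb⟩
  have h1 : sMap μ c.1.1 = c.1.2 ⊗ₜ 1 := eqL_prop c
  rw [map_sub, h1, sub_eq_zero]
  change _ = (Algebra.TensorProduct.map μ (AlgHom.id Λ Λ')) (b ⊗ₜ 1)
  rw [Algebra.TensorProduct.map_tmul, hb, map_one]

theorem mul_eq_zero_of_ker (μ : B →ₐ[Λ] A) (hμ : Function.Surjective μ) (hsq : RingHom.ker μ.toRingHom ^ 2 = ⊥)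
    {i j : B ⊗[Λ] Λ'} (hi : sMap μ i = 0) (hj : sMap μ j = 0) : i * j = 0 := by
  have h1 : i ∈ RingHom.ker (sMap (Λ' := Λ') μ) := hi
  have h2 : j ∈ RingHom.ker (sMap (Λ' := Λ') μ) := hj
  rw [show RingHom.ker (sMap (Λ' := Λ') μ) = _ from ker_map μ hμ] at h1 h2
  have h3 := Ideal.mul_mem_mul h1 h2
  rw [← Ideal.map_mul, ← pow_two, hsq, Ideal.map_bot] at h3
  exact h3

theorem bc_left (b : B) (x : B ⊗[Λ] Λ') : bc t B ((b ⊗ₜ 1) * x) = b * bc t B x := by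
  have h1 : (b ⊗ₜ (1 : Λ')) * x = b • x := by
    rw [Algebra.smul_def]
    rfl
  rw [h1, map_smul, smul_eq_mul]

/-- The retraction `B ×_A A' → B`. -/
theorem exists_phi (ht : t 1 = 1) (μ : B →ₐ[Λ] A) (hμ : Function.Surjective μ)
    (hsq : RingHom.ker μ.toRingHom ^ 2 = ⊥) :
    ∃ φ : eqL (sMap (Λ' := Λ') μ) (rMap Λ Λ' A) →+* B, μ.toRingHom.comp φ = eqL.snd (sMap (Λ' := Λ') μ) (rMap Λ Λ' A) := by
  have hb1 : ∀ b : B, bc t B (b ⊗ₜ[Λ] (1 : Λ')) = b := fun b => by rw [bc_tmul, ht, one_smul]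
  have hk : ∀ i : B ⊗[Λ] Λ', sMap μ i = 0 → μ (bc t B i) = 0 := fun i hi => by
    rw [bc_map]
    have : (Algebra.TensorProduct.map μ (AlgHom.id Λ Λ')) i = 0 := hi
    rw [this, map_zero]
  have hII : ∀ a b : B, μ a = 0 → μ b = 0 → a * b = 0 := fun a b ha hb => by
    have h3 := Ideal.mul_mem_mul (show a ∈ RingHom.ker μ.toRingHom from ha) (show b ∈ RingHom.ker μ.toRingHom from hb)
    rw [← pow_two, hsq] at h3
    exact h3
  refine ⟨{ toFun := fun c => bc t B c.1.1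
            map_one' := bc_one t ht
            map_mul' := ?_
            map_zero' := ?_
            map_add' := ?_ }, ?_⟩
  · intro c d
    obtain ⟨b, i, h1, h2, -⟩ := exists_decomp μ hμ c
    obtain ⟨b', i', h1', h2', -⟩ := exists_decomp μ hμ d
    change bc t B (c.1.1 * d.1.1) = bc t B c.1.1 * bc t B d.1.1
    rw [h1, h1']
    have e : (b ⊗ₜ 1 + i) * (b' ⊗ₜ 1 + i') = ((b ⊗ₜ[Λ] (1 : Λ')) * (b' ⊗ₜ 1) + (b ⊗ₜ 1) * i') + (b' ⊗ₜ 1) * i + i * i' := by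
      ring
    rw [e, mul_eq_zero_of_ker μ hμ hsq h2 h2', add_zero, map_add, map_add, bc_left, bc_left, bc_left, map_add, map_add,
      hb1, hb1]
    have e2 := hII _ _ (hk i h2) (hk i' h2')
    linear_combination -e2
  · change bc t B 0 = 0
    rw [map_zero]
  · intro c d
    change bc t B (c.1.1 + d.1.1) = _
    rw [map_add]
  · ext c
    obtain ⟨b, i, h1, h2, h3⟩ := exists_decomp μ hμ c
    change μ (bc t B c.1.1) = c.1.2
    rw [h1, map_add, hb1, map_add, hk i h2, add_zero, h3]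

end phi

end K606.Phi
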