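import Groth.Agent.CurvSt.K606.Phi
import Groth.Prelude.Def_ArtFun
import Mathlib.RingTheory.Noetherian.OfPrime
import Mathlib.RingTheory.HopkinsLevitzki

/-!
# Change of residue field

For an Artinian local ring `R` with residue field `K` finite over `k`, the ring `R ×_K k` is Artinian local.
-/

set_option autoImplicit false
set_option linter.unusedSectionVars false
universe u

open TensorProduct CategoryTheory IsLocalRing

namespace K606.ResSub

open Groth.Agent.FlatB.PushRing
open Groth.Agent.Pi1C.MilnorEt (IsMilnor)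

section ring

variable {R k K : Type u} [CommRing R] [IsLocalRing R] [IsArtinianRing R] [Field k] [Field K] [Algebra k K]
  [FiniteDimensional k K] (ρ : R →+* K)

/-- `R ×_K k`. -/
abbrev C (k : Type u) [Field k] [Algebra k K] : Type u := eqL ρ (algebraMap k K)

theorem ker_rho (hρ : Function.Surjective ρ) : RingHom.ker ρ = maximalIdeal R := by
  have : (RingHom.ker ρ).IsMaximal := RingHom.ker_isMaximal_of_surjective _ hρ
  exact eq_maximalIdeal this

theorem isNilpotent_of_snd (hρ : Function.Surjective ρ) (c : C ρ k) (hc : eqL.snd ρ (algebraMap k K) c = 0) :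
    IsNilpotent c := by
  have h1 : ρ c.1.1 = 0 := by
    rw [eqL_prop c]
    change algebraMap k K (eqL.snd ρ (algebraMap k K) c) = 0
    rw [hc, map_zero]
  have h2 : c.1.1 ∈ maximalIdeal R := by
    rw [← ker_rho ρ hρ]; exact h1
  obtain ⟨n, hn⟩ := (isArtinianRing_iff_isNilpotent_maximalIdeal R).1 inferInstance
  refine ⟨n + 1, eqL.ext ?_ ?_⟩
  · change c.1.1 ^ (n + 1) = 0
    have h3 : c.1.1 ^ n = 0 := by
      have := Ideal.pow_mem_pow h2 n
      rwa [hn] at this
    rw [pow_succ, h3, zero_mul]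
  · change c.1.2 ^ (n + 1) = 0
    have h4 : c.1.2 = 0 := hc
    rw [h4, zero_pow n.succ_ne_zero]

theorem snd_surjective (hρ : Function.Surjective ρ) : Function.Surjective (eqL.snd ρ (algebraMap k K)) :=
  eqL.snd_surjective hρ

theorem isUnit_of_snd (hρ : Function.Surjective ρ) (c : C ρ k) (hc : eqL.snd ρ (algebraMap k K) c ≠ 0) : IsUnit c := by
  obtain ⟨d, hd⟩ := snd_surjective ρ hρ (eqL.snd ρ (algebraMap k K) c)⁻¹
  have h1 : IsNilpotent (c * d - 1) := isNilpotent_of_snd ρ hρ _ (by
    rw [map_sub, map_mul, hd, map_one, mul_inv_cancel₀ hc, sub_self])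
  have h2 : IsUnit (c * d) := by
    have := h1.isUnit_add_one
    rwa [sub_add_cancel] at this
  exact isUnit_of_mul_isUnit_left h2

theorem isLocalRing (hρ : Function.Surjective ρ) : IsLocalRing (C ρ k) := by
  have : Nontrivial (C ρ k) := (eqL.snd ρ (algebraMap k K)).domain_nontrivial
  refine IsLocalRing.of_isUnit_or_isUnit_one_sub_self fun a => ?_
  by_cases h : eqL.snd ρ (algebraMap k K) a = 0
  · refine Or.inr (isUnit_of_snd ρ hρ _ ?_)
    rw [map_sub, map_one, h, sub_zero]
    exact one_ne_zero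
  · exact Or.inl (isUnit_of_snd ρ hρ _ h)

/-- `R` is finite over `R ×_K k`. -/
theorem finite_fst (hρ : Function.Surjective ρ) : (eqL.fst ρ (algebraMap k K)).Finite := by
  classical
  let _ : Algebra (C ρ k) R := (eqL.fst ρ (algebraMap k K)).toAlgebra
  change Module.Finite (C ρ k) R
  obtain ⟨s, hs⟩ := (inferInstance : Module.Finite k K).fg_top
  choose g hg using hρ
  refine ⟨⟨insert 1 (s.image g), ?_⟩⟩
  rw [eq_top_iff]
  rintro r -
  have h0 : ∀ κ ∈ Submodule.span k (s : Set K), ∃ r' ∈ Submodule.span (C ρ k) ((s.image g : Finset R) : Set R), ρ r' = κ := by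
    intro κ hκ
    refine Submodule.span_induction ?_ ?_ ?_ ?_ hκ
    · intro x hx
      exact ⟨g x, Submodule.subset_span (by simpa using ⟨x, hx, rfl⟩), hg x⟩
    · exact ⟨0, zero_mem _, map_zero _⟩
    · rintro x y _ _ ⟨a, ha, rfl⟩ ⟨b, hb, rfl⟩
      exact ⟨a + b, add_mem ha hb, map_add _ _ _⟩
    · rintro a x _ ⟨b, hb, rfl⟩
      obtain ⟨c, hc⟩ := snd_surjective (k := k) ρ (fun x => ⟨g x, hg x⟩) a
      refine ⟨c • b, Submodule.smul_mem _ _ hb, ?_⟩
      rw [Algebra.smul_def, map_mul, Algebra.smul_def]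
      congr 1
      change ρ c.1.1 = _
      rw [eqL_prop c, ← hc]
      rfl
  obtain ⟨r', hr', h1⟩ := h0 (ρ r) (by rw [hs]; trivial)
  let c : C ρ k := ⟨(r - r', 0), by
    change ρ (r - r') = algebraMap k K 0
    rw [map_sub, h1, sub_self, map_zero]⟩
  have h2 : r = c • (1 : R) + r' := by
    rw [Algebra.smul_def, mul_one]
    change r = (r - r') + r'
    rw [sub_add_cancel]
  rw [h2]
  refine add_mem (Submodule.smul_mem _ _ (Submodule.subset_span (by simp))) ?_
  exact Submodule.span_mono (by simp) hr'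

theorem ker_snd_fg (hρ : Function.Surjective ρ) : (RingHom.ker (eqL.snd ρ (algebraMap k K))).FG := by
  let _ : Algebra (C ρ k) R := (eqL.fst ρ (algebraMap k K)).toAlgebra
  have h1 : Module.Finite (C ρ k) R := finite_fst ρ hρ
  have h2 : Module.Finite R (maximalIdeal R) := Module.Finite.iff_fg.2 (IsNoetherian.noetherian _)
  have h3 : Module.Finite (C ρ k) (maximalIdeal R) := Module.Finite.trans R _
  have hmem : ∀ x : maximalIdeal R, ρ (x : R) = algebraMap k K 0 := fun x => by
    rw [map_zero]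
    have : (x : R) ∈ RingHom.ker ρ := by rw [ker_rho ρ hρ]; exact x.2
    exact this
  let f : maximalIdeal R →ₗ[C ρ k] C ρ k :=
    { toFun := fun x => ⟨((x : R), 0), hmem x⟩
      map_add' := fun x y => eqL.ext rfl (add_zero (0 : k)).symm
      map_smul' := fun c x => eqL.ext rfl (mul_zero c.1.2).symm }
  have h4 : LinearMap.range f = RingHom.ker (eqL.snd ρ (algebraMap k K)) := by
    apply le_antisymm
    · rintro _ ⟨x, rfl⟩
      exact rfl
    · intro c hc
      have h5 : c.1.2 = 0 := hc
      have h6 : c.1.1 ∈ maximalIdeal R := by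
        rw [← ker_rho ρ hρ, RingHom.mem_ker, eqL_prop c, h5, map_zero]
      exact ⟨⟨c.1.1, h6⟩, eqL.ext rfl h5.symm⟩
  have h5 : (LinearMap.range f).FG := Module.Finite.iff_fg.1 inferInstance
  rwa [h4] at h5

theorem isArtinianRing (hρ : Function.Surjective ρ) : IsArtinianRing (C ρ k) := by
  have := isLocalRing (k := k) ρ hρ
  have hker : RingHom.ker (eqL.snd ρ (algebraMap k K)) = maximalIdeal (C ρ k) := by
    have : (RingHom.ker (eqL.snd ρ (algebraMap k K))).IsMaximal :=
      RingHom.ker_isMaximal_of_surjective _ (snd_surjective ρ hρ)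
    exact eq_maximalIdeal this
  have hN : IsNoetherianRing (C ρ k) := by
    refine IsNoetherianRing.of_prime fun I hI => ?_
    have h1 : I = maximalIdeal (C ρ k) := by
      refine (maximalIdeal.isMaximal _).eq_of_le hI.ne_top ?_ |>.symm
      rw [← hker]
      intro c hc
      obtain ⟨n, hn⟩ := isNilpotent_of_snd ρ hρ c hc
      exact hI.mem_of_pow_mem n (by rw [hn]; exact I.zero_mem)
    rw [h1, ← hker]
    exact ker_snd_fg ρ hρ
  rw [isArtinianRing_iff_isNilpotent_maximalIdeal, ← hker]
  apply (Ideal.FG.isNilpotent_iff_le_nilradical (ker_snd_fg ρ hρ)).2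
  intro c hc
  exact isNilpotent_of_snd ρ hρ c hc

end ring

section art

variable {Λ R k K : Type u} [CommRing Λ] [CommRing R] [IsLocalRing R] [IsArtinianRing R] [Field k] [Field K] [Algebra k K]
  [FiniteDimensional k K] [Algebra Λ R] [Algebra Λ k] (ρ : R →+* K) (hρ : Function.Surjective ρ)
  (hΛ : ρ.comp (algebraMap Λ R) = (algebraMap k K).comp (algebraMap Λ k))

/-- The structure map `Λ → R ×_K k`. -/
def alg : Λ →+* C ρ k where
  toFun l := ⟨(algebraMap Λ R l, algebraMap Λ k l), RingHom.congr_fun hΛ l⟩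
  map_one' := eqL.ext (map_one _) (map_one _)
  map_mul' _ _ := eqL.ext (map_mul _ _ _) (map_mul _ _ _)
  map_zero' := eqL.ext (map_zero _) (map_zero _)
  map_add' _ _ := eqL.ext (map_add _ _ _) (map_add _ _ _)

/-- The algebra structure of `R ×_K k`. -/
@[reducible] def algInst : Algebra Λ (C ρ k) := (alg ρ hΛ).toAlgebra

/-- `R ×_K k` as an object of `Art Λ k`. -/
@[reducible] def art : ArtFun.Art Λ k :=
  letI := algInst ρ hΛ
  haveI := isLocalRing (k := k) ρ hρ
  haveI := isArtinianRing (k := k) ρ hρ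
  ArtFun.Art.of (C ρ k) { toRingHom := eqL.snd ρ (algebraMap k K), commutes' := fun _ => rfl }
    (snd_surjective ρ hρ)

variable {R' : Type u} [CommRing R'] [IsLocalRing R'] [IsArtinianRing R'] [Algebra Λ R'] (π : R' →ₐ[Λ] R)
  (hπ : Function.Surjective π)

include hρ hπ in
theorem surj_comp : Function.Surjective (ρ.comp π.toRingHom) := hρ.comp hπ

include hΛ in
theorem comp_alg : (ρ.comp π.toRingHom).comp (algebraMap Λ R') = (algebraMap k K).comp (algebraMap Λ k) := by
  rw [← hΛ]
  ext l
  exact congrArg ρ (π.commutes l)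

/-- Functoriality. -/
def artMap : art (ρ.comp π.toRingHom) (surj_comp ρ hρ π hπ) (comp_alg ρ hΛ π) ⟶ art ρ hρ hΛ where
  toAlgHom :=
    { toFun := fun c => (⟨(π c.1.1, c.1.2), c.2⟩ : C ρ k)
      map_one' := eqL.ext (map_one _) rfl
      map_mul' := fun _ _ => eqL.ext (map_mul _ _ _) rfl
      map_zero' := eqL.ext (map_zero _) rfl
      map_add' := fun _ _ => eqL.ext (map_add _ _ _) rfl
      commutes' := fun l => eqL.ext (π.commutes l) rfl }
  res_comp := by
    ext c
    rfl

include hπ in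
theorem artMap_surjective : Function.Surjective (artMap ρ hρ hΛ π hπ) := by
  rintro ⟨⟨a, b⟩, h⟩
  obtain ⟨a', rfl⟩ := hπ a
  exact ⟨⟨(a', b), h⟩, rfl⟩

end art

end K606.ResSub
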